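import Groth.Agent.Lib.DimOne16.Cover
import Groth.Agent.Lib.HopfAG.NoPrim
import Mathlib.RingTheory.Bialgebra.SymmetricAlgebra
import Mathlib.RingTheory.Bialgebra.Equiv
import Mathlib.LinearAlgebra.FreeModule.PID
import Mathlib.Algebra.Module.Torsion.Free

/-!
# The additive and the multiplicative group
-/

universe u

set_option linter.all false

open TensorProduct WithConv Polynomial

noncomputable section

namespace Groth.Agent.Lib.DimOne16

variable {k : Type u} [Field k] [IsAlgClosed k] {A : Type u} [CommRing A] [HopfAlgebra k A]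
  [Algebra.FiniteType k A] [IsDomain A]

theorem equiv_symmetricAlgebra (hdim : ringKrullDim A = 1) (hex : ∃ x : A, IsPrim k x ∧ x ≠ 0) :
    Nonempty (A ≃ₐc[k] SymmetricAlgebra k k) := by
  obtain ⟨x, hx, hx0, hadj⟩ := exists_primitive_coordinate hdim hex
  let f : SymmetricAlgebra k k →ₐ[k] A := SymmetricAlgebra.lift (LinearMap.toSpanSingleton k A x)
  have hf : f (SymmetricAlgebra.ι k k 1) = x := by simp [f]
  let φ : SymmetricAlgebra k k →ₐc[k] A := BialgHom.ofAlgHom f
    (SymmetricAlgebra.algHom_ext (LinearMap.ext_ring (by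
      change Coalgebra.counit (R := k) (f (SymmetricAlgebra.ι k k 1)) =
        Coalgebra.counit (R := k) (SymmetricAlgebra.ι k k (1 : k))
      rw [hf, SymmetricAlgebra.counit_ι]
      exact hx.counit)))
    (SymmetricAlgebra.algHom_ext (LinearMap.ext_ring (by
      change Algebra.TensorProduct.map f f (Coalgebra.comul (R := k) (SymmetricAlgebra.ι k k (1 : k))) =
        Coalgebra.comul (R := k) (f (SymmetricAlgebra.ι k k 1))
      rw [SymmetricAlgebra.comul_ι, map_add, Algebra.TensorProduct.map_tmul, Algebra.TensorProduct.map_tmul,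
        hf, map_one, show Coalgebra.comul (R := k) x = _ from hx])))
  have hsurjι : ∀ y : SymmetricAlgebra k k, ∃ P : k[X], aeval (SymmetricAlgebra.ι k k (1 : k)) P = y := by
    intro y
    induction y using SymmetricAlgebra.induction with
    | algebraMap r => exact ⟨C r, aeval_C _ _⟩
    | ι r =>
      refine ⟨C r * X, ?_⟩
      rw [map_mul, aeval_C, aeval_X, ← Algebra.smul_def, ← map_smul, smul_eq_mul, mul_one]
    | mul c d hc hd =>
      obtain ⟨c', rfl⟩ := hc
      obtain ⟨d', rfl⟩ := hd
      exact ⟨c' * d', map_mul _ _ _⟩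
    | add c d hc hd =>
      obtain ⟨c', rfl⟩ := hc
      obtain ⟨d', rfl⟩ := hd
      exact ⟨c' + d', map_add _ _ _⟩
  have hcomp : ∀ P : k[X], f (aeval (SymmetricAlgebra.ι k k (1 : k)) P) = aeval x P := fun P => by
    rw [← Polynomial.aeval_algHom_apply, hf]
  have hbij : Function.Bijective φ := by
    constructor
    · intro a b hab
      obtain ⟨P, rfl⟩ := hsurjι a
      obtain ⟨Q, rfl⟩ := hsurjι b
      have h : f (aeval (SymmetricAlgebra.ι k k (1 : k)) P) = f (aeval (SymmetricAlgebra.ι k k (1 : k)) Q) := hab
      rw [hcomp, hcomp] at h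
      rw [hx.aeval_injective hx0 h]
    · intro a
      have ha : a ∈ Algebra.adjoin k {x} := hadj ▸ Algebra.mem_top
      rw [Algebra.adjoin_singleton_eq_range_aeval] at ha
      obtain ⟨P, rfl⟩ := ha
      exact ⟨_, hcomp P⟩
  exact ⟨(BialgEquiv.ofBijective φ hbij).symm⟩

theorem equiv_monoidAlgebra (hdim : ringKrullDim A = 1) (hno : ∀ x : A, IsPrim k x → x = 0) :
    Nonempty (A ≃ₐc[k] MonoidAlgebra k (Multiplicative ℤ)) := by
  classical
  haveI := isCocomm (k := k) (A := A) hdim
  have hdiag : HopfRep.IsDiagonalizable k A := GrothLib.NoPrim.isDiagonalizable_of_isAlgClosed hno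
  haveI := GrothLib.CharFG28.fg_groupLike k A
  haveI : IsMulTorsionFree (GroupLike k A) := by
    refine ⟨fun m hm g h hgh => ?_⟩
    have h1 : (g / h) ^ m = 1 := by
      rw [div_pow]; exact div_eq_one.2 hgh
    have hint : IsIntegral k ((g / h : GroupLike k A) : A) := IsIntegral.of_pow (Nat.pos_of_ne_zero hm) (by
      rw [← GroupLike.val_pow, h1, GroupLike.val_one]; exact isIntegral_one)
    haveI : Algebra.IsIntegral k (Algebra.adjoin k {((g / h : GroupLike k A) : A)}) :=
      Algebra.IsIntegral.adjoin (by rintro y rfl; exact hint)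
    obtain ⟨c, hc⟩ := (IsAlgClosed.algebraMap_bijective_of_isIntegral (k := k)
      (K := Algebra.adjoin k {((g / h : GroupLike k A) : A)})).2 ⟨_, Algebra.subset_adjoin rfl⟩
    have hc' : algebraMap k A c = ((g / h : GroupLike k A) : A) := congrArg Subtype.val hc
    have hcc : c = 1 := by
      have := (g / h).2.1
      rw [← hc', Bialgebra.counit_algebraMap] at this
      exact this
    exact div_eq_one.1 (GroupLike.val_injective (by rw [← hc', hcc, map_one, GroupLike.val_one]))
  haveI : Module.Finite ℤ (Additive (GroupLike k A)) := Module.Finite.iff_addGroup_fg.2 inferInstance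
  let ι := Module.Free.ChooseBasisIndex ℤ (Additive (GroupLike k A))
  let b : Module.Basis ι ℤ (Additive (GroupLike k A)) := Module.Free.chooseBasis ℤ _
  have hsub : Subsingleton ι := ⟨fun i j => by
    by_contra hij
    let v : Fin 2 → A := ![((Additive.toMul (b i) : GroupLike k A) : A), ((Additive.toMul (b j) : GroupLike k A) : A)]
    refine not_algebraicIndependent (k := k) hdim v ((injective_iff_map_eq_zero _).2 fun F hF => ?_)
    let γ : (Fin 2 →₀ ℕ) → GroupLike k A := fun d =>
      (Additive.toMul (b i)) ^ (d 0) * (Additive.toMul (b j)) ^ (d 1)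
    have hγ : Function.Injective γ := fun d e hde => by
      have h2 := congrArg (fun g => b.repr (Additive.ofMul g)) hde
      simp only [γ, ofMul_mul, ofMul_pow, ofMul_toMul, map_add, map_nsmul, Module.Basis.repr_self] at h2
      have hi := DFunLike.congr_fun h2 i
      have hj := DFunLike.congr_fun h2 j
      simp [Finsupp.single_apply, hij, Ne.symm hij] at hi hj
      exact Finsupp.ext (Fin.forall_fin_two.2 ⟨hi, hj⟩)
    have hli : LinearIndependent k fun d => ((γ d : GroupLike k A) : A) :=
      ((linearIndepOn_isGroupLikeElem (R := k) (A := A)).linearIndependent.comp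
        (fun g : GroupLike k A => (⟨g.1, g.2⟩ : {a : A | IsGroupLikeElem k a}))
        fun g h e => GroupLike.val_injective (congrArg Subtype.val e)).comp γ hγ
    have he := congrArg (MvPolynomial.aeval (R := k) v) F.as_sum
    rw [map_sum, hF] at he
    have hz := linearIndependent_iff'.1 hli F.support (fun d => F.coeff d) (by
      refine Eq.trans (Finset.sum_congr rfl fun d _ => ?_) he.symm
      rw [MvPolynomial.aeval_monomial, Finsupp.prod_fintype _ _ (fun _ => pow_zero _), Fin.prod_univ_two,
        Algebra.smul_def]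
      simp [v, γ])
    ext d
    rw [MvPolynomial.coeff_zero]
    by_cases hd : d ∈ F.support
    · exact hz d hd
    · exact MvPolynomial.notMem_support_iff.1 hd⟩
  have hne : Nonempty ι := by
    by_contra hempty
    haveI := not_nonempty_iff.1 hempty
    haveI : Subsingleton (Additive (GroupLike k A)) := b.repr.toEquiv.subsingleton
    have htriv : ∀ g : GroupLike k A, g = 1 := fun g => Additive.ofMul.injective (Subsingleton.elim _ _)
    have hsurj : Function.Surjective (algebraMap k A) := fun a => by
      have ha : a ∈ Submodule.span k {a : A | IsGroupLikeElem k a} := by rw [hdiag]; trivial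
      have hle : Submodule.span k {a : A | IsGroupLikeElem k a} ≤ Submodule.span k ({1} : Set A) :=
        Submodule.span_mono fun c hc => congrArg GroupLike.val (htriv ⟨c, hc⟩)
      obtain ⟨c, rfl⟩ := Submodule.mem_span_singleton.1 (hle ha)
      exact ⟨c, Algebra.algebraMap_eq_smul_one c⟩
    have hf : IsField A := MulEquiv.isField (Field.toIsField k)
      (RingEquiv.ofBijective (algebraMap k A) ⟨(algebraMap k A).injective, hsurj⟩).toMulEquiv.symm
    rw [ringKrullDim_eq_zero_of_isField hf] at hdim
    exact zero_ne_one hdim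
  obtain ⟨i₀⟩ := hne
  haveI : Unique ι := uniqueOfSubsingleton i₀
  let eG : Multiplicative ℤ ≃* GroupLike k A :=
    (AddEquiv.toMultiplicativeLeft ((b.repr.trans (Finsupp.LinearEquiv.finsuppUnique ℤ ℤ ι)).toAddEquiv.symm))
  let Φ : MonoidAlgebra k (Multiplicative ℤ) →ₐc[k] A :=
    (MonoidAlgebra.liftGroupLikeBialgHom (R := k) (A := A)).comp
      (MonoidAlgebra.mapDomainBialgHom k eG.toMonoidHom)
  have hbij : Function.Bijective Φ := by
    refine ⟨(GrothLib.CharFG28.liftGroupLike_injective k A).comp (MonoidAlgebra.mapDomain_injective eG.injective), fun a => ?_⟩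
    have ha : a ∈ Submodule.span k {a : A | IsGroupLikeElem k a} := by rw [hdiag]; trivial
    induction ha using Submodule.span_induction with
    | mem c hc =>
      refine ⟨MonoidAlgebra.single (eG.symm ⟨c, hc⟩) 1, ?_⟩
      simp [Φ]
    | zero => exact ⟨0, map_zero _⟩
    | add c d _ _ hc hd =>
      obtain ⟨c', rfl⟩ := hc
      obtain ⟨d', rfl⟩ := hd
      exact ⟨c' + d', map_add _ _ _⟩
    | smul r c _ hc =>
      obtain ⟨c', rfl⟩ := hc
      exact ⟨r • c', map_smul _ _ _⟩
  exact ⟨(BialgEquiv.ofBijective Φ hbij).symm⟩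

end Groth.Agent.Lib.DimOne16
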