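import Groth.Agent.Lib.HopfAG.Dense
import Groth.Agent.Lib.HopfAG.LieKolchin
import Groth.Agent.Lib.HopfAG.UnipPts
import Groth.Agent.Lib.Hopf.UnitsGroupLike
import Groth.Agent.S7975
import Groth.Agent.S7986
import Mathlib.RingTheory.KrullDimension.Field
import Mathlib.LinearAlgebra.Matrix.Charpoly.Coeff

/-!
# One-dimensional connected group varieties: points and commutativity
-/

universe u

set_option linter.all false

open TensorProduct HopfRep WithConv GrothLib.Hopf

noncomputable section

namespace Groth.Agent.Lib.DimOne16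

variable {k : Type u} [Field k] [IsAlgClosed k] {A : Type u} [CommRing A] [HopfAlgebra k A]
  [Algebra.FiniteType k A]

section dense

variable [IsReduced A]

theorem ext_points {B : Type u} [CommRing B] [Algebra k B] (φ ψ : B →ₐ[k] A)
    (h : ∀ g : A →ₐ[k] k, g.comp φ = g.comp ψ) : φ = ψ :=
  AlgHom.ext fun b => sub_eq_zero.1 (GrothLib.Dense.eq_zero_of_forall_point (k := k) _ fun g => by
    rw [map_sub, sub_eq_zero]; exact AlgHom.congr_fun (h g) b)

theorem tensor_eq_zero (t : A ⊗[k] A)
    (h : ∀ g g' : A →ₐ[k] k, Algebra.TensorProduct.lift g g' (fun _ _ => Commute.all _ _) t = 0) : t = 0 := by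
  classical
  let b := Module.Free.chooseBasis k A
  obtain ⟨c, hc⟩ := TensorProduct.eq_repr_basis_left b t
  suffices hc0 : c = 0 by rw [← hc, hc0, Finsupp.sum_zero_index]
  ext i
  refine GrothLib.Dense.eq_zero_of_forall_point (k := k) _ fun g' => ?_
  let v : _ →₀ k := c.mapRange (fun a => g' a) (map_zero g')
  have hv : Finsupp.linearCombination k b v = 0 := by
    refine GrothLib.Dense.eq_zero_of_forall_point (k := k) _ fun g => ?_
    rw [← h g g', ← hc, Finsupp.linearCombination_apply]
    simp only [v]
    rw [Finsupp.sum_mapRange_index (fun j => zero_smul k (b j)), Finsupp.sum, Finsupp.sum, map_sum, map_sum]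
    refine Finset.sum_congr rfl fun j _ => ?_
    rw [Algebra.TensorProduct.lift_tmul, map_smul, smul_eq_mul, mul_comm]
  have : v = 0 := b.linearIndependent (by rw [hv, map_zero])
  simpa [v] using DFunLike.congr_fun this i

theorem isCocomm_of_comm (h : ∀ g g' : WithConv (A →ₐ[k] k), g * g' = g' * g) : Coalgebra.IsCocomm k A := by
  refine ⟨LinearMap.ext fun a => ?_⟩
  refine sub_eq_zero.1 (tensor_eq_zero _ fun g g' => ?_)
  have e1 : ∀ t : A ⊗[k] A, Algebra.TensorProduct.lift g g' (fun _ _ => Commute.all _ _) (TensorProduct.comm k A A t) =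
      Algebra.TensorProduct.lift g' g (fun _ _ => Commute.all _ _) t := fun t => by
    induction t using TensorProduct.induction_on with
    | zero => simp
    | tmul x y => simp [mul_comm]
    | add x y hx hy => simp only [map_add, hx, hy]
  have e2 : ∀ f f' : A →ₐ[k] k, Algebra.TensorProduct.lift f f' (fun _ _ => Commute.all _ _)
      (Coalgebra.comul (R := k) a) = (toConv f * toConv f').ofConv a := fun f f' => by
    show _ = (toConv f * toConv f') a
    rw [AlgHom.convMul_apply]
  rw [map_sub, LinearMap.comp_apply, LinearEquiv.coe_coe, e1, e2, e2, h, sub_self]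

end dense

section conj

/-- The constant map at a point. -/
def cst (h : WithConv (A →ₐ[k] k)) : WithConv (A →ₐ[k] A) := toConv ((Algebra.ofId k A).comp h.ofConv)

/-- The identity as a point. -/
def gen : WithConv (A →ₐ[k] A) := toConv (AlgHom.id k A)

/-- `x ↦ [h, x]`. -/
def brk (h : WithConv (A →ₐ[k] k)) : A →ₐ[k] A := (cst h * gen * (cst h)⁻¹ * gen⁻¹).ofConv

/-- `x ↦ x h x⁻¹`. -/
def conjMap (h : WithConv (A →ₐ[k] k)) : A →ₐ[k] A := (gen * cst h * gen⁻¹).ofConv

/-- Evaluation at a point is a homomorphism of groups of points. -/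
def evalPt (x : WithConv (A →ₐ[k] k)) : WithConv (A →ₐ[k] A) →* WithConv (A →ₐ[k] k) where
  toFun f := toConv (x.ofConv.comp f.ofConv)
  map_one' := by
    refine congrArg toConv ?_
    exact GrothLib.Hopf.comp_convOne _
  map_mul' f g := GrothLib.Hopf.comp_convMul _ f g

theorem evalPt_cst (x h : WithConv (A →ₐ[k] k)) : evalPt x (cst h) = h :=
  congrArg toConv (AlgHom.ext fun a => x.ofConv.commutes (h.ofConv a))

theorem evalPt_gen (x : WithConv (A →ₐ[k] k)) : evalPt x gen = x :=
  congrArg toConv (AlgHom.comp_id _)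

theorem eval_brk (x h : WithConv (A →ₐ[k] k)) :
    toConv (x.ofConv.comp (brk h)) = h * x * h⁻¹ * x⁻¹ := by
  show evalPt x (cst h * gen * (cst h)⁻¹ * gen⁻¹) = _
  rw [map_mul, map_mul, map_mul, map_inv, map_inv, evalPt_cst, evalPt_gen]

theorem eval_conj (x h : WithConv (A →ₐ[k] k)) : toConv (x.ofConv.comp (conjMap h)) = x * h * x⁻¹ := by
  show evalPt x (gen * cst h * gen⁻¹) = _
  rw [map_mul, map_mul, map_inv, evalPt_cst, evalPt_gen]

variable [IsDomain A]

/-- An endomorphism of a one-dimensional domain is injective or is a constant point. -/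
theorem injective_or_const (hdim : ringKrullDim A = 1) (φ : A →ₐ[k] A) :
    Function.Injective φ ∨ ∃ h : A →ₐ[k] k, φ = (Algebra.ofId k A).comp h := by
  by_cases hφ : Function.Injective φ
  · exact Or.inl hφ
  refine Or.inr ?_
  haveI : Ring.KrullDimLE 1 A := Ring.krullDimLE_iff.mpr hdim.le
  have hne : RingHom.ker φ ≠ ⊥ := fun h => hφ ((RingHom.injective_iff_ker_eq_bot φ).2 h)
  haveI hm : (RingHom.ker φ).IsMaximal :=
    Ring.krullDimLE_one_iff_of_noZeroDivisors.mp inferInstance _ hne (RingHom.ker_isPrime φ)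
  letI := Ideal.Quotient.field (RingHom.ker φ)
  haveI : Module.Finite k (A ⧸ RingHom.ker φ) := finite_of_finite_type_of_isJacobsonRing k _
  let i : k ≃ₐ[k] A ⧸ RingHom.ker φ :=
    AlgEquiv.ofBijective (Algebra.ofId k _) IsAlgClosed.algebraMap_bijective_of_isIntegral
  refine ⟨i.symm.toAlgHom.comp (Ideal.Quotient.mkₐ k _), AlgHom.ext fun a => ?_⟩
  let c : k := i.symm (Ideal.Quotient.mk (RingHom.ker φ) a)
  show φ a = algebraMap k A c
  have hc : Ideal.Quotient.mk (RingHom.ker φ) a = Ideal.Quotient.mk _ (algebraMap k A c) :=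
    (i.apply_symm_apply _).symm
  rw [← sub_eq_zero, ← φ.commutes c, ← map_sub]
  exact Ideal.Quotient.eq.1 hc

theorem conjMap_injective (hdim : ringKrullDim A = 1) {h : WithConv (A →ₐ[k] k)}
    (hh : ∃ x, h * x ≠ x * h) : Function.Injective (conjMap h) := by
  refine (injective_or_const hdim _).resolve_right ?_
  rintro ⟨c, hc⟩
  have key : ∀ x, x * h * x⁻¹ = toConv c := fun x => by
    rw [← eval_conj, hc]
    exact evalPt_cst x (toConv c)
  obtain ⟨x, hx⟩ := hh
  have h1 := key 1
  rw [one_mul, inv_one, mul_one] at h1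
  have h2 := key x
  rw [← h1, mul_inv_eq_iff_eq_mul] at h2
  exact hx h2.symm

theorem brk_injective (hdim : ringKrullDim A = 1) {h : WithConv (A →ₐ[k] k)}
    (hh : ∃ x, h * x ≠ x * h) : Function.Injective (brk h) := by
  refine (injective_or_const hdim _).resolve_right ?_
  rintro ⟨c, hc⟩
  have key : ∀ x, h * x * h⁻¹ * x⁻¹ = toConv c := fun x => by
    rw [← eval_brk, hc]
    exact evalPt_cst x (toConv c)
  obtain ⟨x, hx⟩ := hh
  have h1 := key 1
  rw [mul_one, mul_inv_cancel, one_mul, inv_one] at h1
  have h2 := key x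
  rw [← h1, mul_inv_eq_one, mul_inv_eq_iff_eq_mul] at h2
  exact hx h2

omit [IsDomain A] in
/-- The characteristic polynomial of the action, as a polynomial over the coordinate ring. -/
theorem exists_universal_charpoly (V : Type u) [AddCommGroup V] [Module k V] [HopfRep.Comod k A V]
    [Module.Finite k V] : ∃ P : Polynomial A, ∀ g : A →ₐ[k] k,
      P.map (g : A →+* k) = (HopfRep.Comod.act k A V g).charpoly := by
  classical
  let b := Module.finBasis k V
  refine ⟨(Matrix.of fun i j => GrothLib.Comodule.cfMap (C := A) (b.coord i) (b j)).charpoly, fun g => ?_⟩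
  rw [← Matrix.charpoly_map, ← LinearMap.charpoly_toMatrix _ b]
  congr 1
  ext i j
  rw [LinearMap.toMatrix_apply]
  exact GrothLib.Dense.dual_act' g (b.coord i) (b j)

/-- If some point is not central, every point acts unipotently. -/
theorem isNilpotent_act_sub_one (hdim : ringKrullDim A = 1) {h : WithConv (A →ₐ[k] k)}
    (hh : ∃ x, h * x ≠ x * h) (V : Type u) [AddCommGroup V] [Module k V] [HopfRep.Comod k A V]
    [Module.Finite k V] (g : A →ₐ[k] k) : IsNilpotent (HopfRep.Comod.act k A V g - 1) := by
  obtain ⟨P, hP⟩ := exists_universal_charpoly (k := k) (A := A) V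
  have hconst : ∀ i, P.coeff i = algebraMap k A (h.ofConv (P.coeff i)) := by
    intro i
    rw [← sub_eq_zero]
    refine conjMap_injective hdim hh ?_
    rw [map_zero]
    refine GrothLib.Dense.eq_zero_of_forall_point (k := k) _ fun x => ?_
    rw [← AlgHom.comp_apply, map_sub, sub_eq_zero, AlgHom.commutes]
    have e := eval_conj (toConv x) h
    have e' : x.comp (conjMap h) = ((toConv x) * h * (toConv x)⁻¹).ofConv := congrArg ofConv e
    have hcp : (HopfRep.Comod.act k A V ((toConv x) * h * (toConv x)⁻¹).ofConv).charpoly =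
        (HopfRep.Comod.act k A V h.ofConv).charpoly := by
      rw [GrothLib.LieKolchin.act_mul, GrothLib.LieKolchin.act_mul]
      let e : V ≃ₗ[k] V := LinearEquiv.ofLinearMap (HopfRep.Comod.act k A V (toConv x).ofConv)
        (HopfRep.Comod.act k A V (toConv x)⁻¹.ofConv)
        (by rw [← Module.End.mul_eq_comp, ← GrothLib.LieKolchin.act_mul, mul_inv_cancel,
              GrothLib.LieKolchin.act_one]; rfl)
        (by rw [← Module.End.mul_eq_comp, ← GrothLib.LieKolchin.act_mul, inv_mul_cancel,
              GrothLib.LieKolchin.act_one]; rfl)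
      exact LinearEquiv.charpoly_conj e _
    rw [← hP, ← hP] at hcp
    have := congrArg (Polynomial.coeff · i) hcp
    simp only [Polynomial.coeff_map] at this
    rw [e']
    exact this
  have key : (HopfRep.Comod.act k A V g).charpoly = (1 : Module.End k V).charpoly := by
    rw [← GrothLib.LieKolchin.act_one (A := A), ← hP, ← hP]
    ext i
    rw [Polynomial.coeff_map, Polynomial.coeff_map, hconst i]
    simp
  have h1 : (1 : Module.End k V).charpoly = (Polynomial.X - 1) ^ Module.finrank k V := by
    classical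
    rw [← LinearMap.charpoly_toMatrix _ (Module.finBasis k V), LinearMap.toMatrix_one, Matrix.charpoly_one,
      Fintype.card_fin]
  refine ⟨Module.finrank k V, ?_⟩
  have h2 := LinearMap.aeval_self_charpoly (HopfRep.Comod.act k A V g)
  rw [key, h1, map_pow, map_sub, map_one, Polynomial.aeval_X] at h2
  exact h2

theorem isUnipotent_of_noncentral (hdim : ringKrullDim A = 1) {h : WithConv (A →ₐ[k] k)}
    (hh : ∃ x, h * x ≠ x * h) : HopfRep.IsUnipotent k A := by
  intro V _ _ _ _ _
  let ρ : Representation k (WithConv (A →ₐ[k] k)) V :=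
    { toFun := fun g => HopfRep.Comod.act k A V g.ofConv
      map_one' := GrothLib.LieKolchin.act_one
      map_mul' := GrothLib.LieKolchin.act_mul }
  obtain ⟨v, hv, hfix⟩ := Groth.Agent.S7975.result k _ V ρ
    (fun g => isNilpotent_act_sub_one hdim hh V g.ofConv)
  intro hbot
  refine hv ((Submodule.mem_bot k).1 (hbot ▸ ?_))
  refine (GrothLib.Dense.mem_fixedPts_iff (K := k)
    (fun a ha => GrothLib.Dense.eq_zero_of_forall_point (k := k) a ha) v).2 fun g => ?_
  refine (TensorProduct.rid k V).injective ?_
  rw [TensorProduct.rid_tmul, one_smul]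
  exact hfix (toConv g)

/-- A connected one-dimensional group variety is commutative. -/
theorem points_comm (hdim : ringKrullDim A = 1) : ∀ g g' : WithConv (A →ₐ[k] k), g * g' = g' * g := by
  by_contra hne
  push Not at hne
  obtain ⟨h₀, x₀, hx₀⟩ := hne
  haveI := Groth.Agent.S7986.result k A (isUnipotent_of_noncentral hdim ⟨x₀, hx₀⟩)
  obtain ⟨h, hcen, hh⟩ : ∃ h : WithConv (A →ₐ[k] k),
      (∀ x, h * x * h⁻¹ * x⁻¹ ∈ Subgroup.center (WithConv (A →ₐ[k] k))) ∧ ∃ x, h * x ≠ x * h := by
    by_contra hno
    push Not at hno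
    have hstab : ∀ n, Subgroup.upperCentralSeries (WithConv (A →ₐ[k] k)) n ≤
        Subgroup.center (WithConv (A →ₐ[k] k)) := by
      intro n
      induction n with
      | zero => simp
      | succ n ih =>
        intro z hz
        rw [Subgroup.mem_upperCentralSeries_succ_iff] at hz
        exact Subgroup.mem_center_iff.2 fun y => ((hno z fun x => ih (hz x)) y).symm
    obtain ⟨n, hn⟩ := Group.IsNilpotent.nilpotent (WithConv (A →ₐ[k] k))
    exact hx₀ ((Subgroup.mem_center_iff.1 (hstab n (hn ▸ Subgroup.mem_top h₀))) x₀).symm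
  have hbi := brk_injective hdim hh
  apply hx₀
  by_contra hy
  have hy' := brk_injective hdim ⟨x₀, hy⟩
  have hcomp : (brk h).comp (brk h₀) = (Algebra.ofId k A).comp (Bialgebra.counitAlgHom k A) := by
    refine ext_points _ _ fun x => ?_
    have e : toConv ((x.comp (brk h)).comp (brk h₀)) = 1 := by
      rw [← ofConv_toConv (x.comp (brk h)), eval_brk, show x.comp (brk h) = (toConv x).ofConv.comp (brk h) from rfl,
        eval_brk]
      have hz := Subgroup.mem_center_iff.1 (hcen (toConv x)) h₀
      rw [mul_inv_eq_one, mul_inv_eq_iff_eq_mul]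
      exact hz
    rw [← AlgHom.comp_assoc]
    refine (congrArg ofConv e).trans ?_
    exact AlgHom.ext fun a => (x.commutes _).symm
  haveI : Ring.KrullDimLE 1 A := Ring.krullDimLE_iff.mpr hdim.le
  have hinj : Function.Injective ((brk h).comp (brk h₀)) := hbi.comp hy'
  rw [hcomp] at hinj
  -- then the coordinate ring is the ground field
  have hsurj : Function.Surjective (algebraMap k A) := fun a => ⟨Bialgebra.counitAlgHom k A a, hinj (by simp [Algebra.ofId_apply])⟩
  have hf : IsField A := MulEquiv.isField (Field.toIsField k)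
    (RingEquiv.ofBijective (algebraMap k A) ⟨(algebraMap k A).injective, hsurj⟩).toMulEquiv.symm
  rw [ringKrullDim_eq_zero_of_isField hf] at hdim
  exact zero_ne_one hdim

theorem isCocomm (hdim : ringKrullDim A = 1) : Coalgebra.IsCocomm k A :=
  isCocomm_of_comm (points_comm hdim)

end conj

end Groth.Agent.Lib.DimOne16
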