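import Groth.Agent.Lib.GaDual.Coeff
import Mathlib.Algebra.MvPolynomial.Expand
import Mathlib.Algebra.CharP.Lemmas
import Mathlib.Algebra.CharP.Frobenius
import Mathlib.FieldTheory.IsAlgClosed.Basic

/-!
# Artin–Schreier reduction of polynomials
-/

universe u

set_option linter.all false

open Polynomial

noncomputable section

namespace Groth.Agent.Lib.DimOne16

variable {k : Type u} [Field k] (p : ℕ) [Fact p.Prime] [CharP k p]

/-- Every polynomial is equivalent to one with no exponent divisible by the characteristic. -/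
theorem exists_reduced [IsAlgClosed k] (f : k[X]) :
    ∃ g : k[X], ∀ n, p ∣ n → (f - (g ^ p - g)).coeff n = 0 := by
  have hp : p.Prime := Fact.out
  have hmon : ∀ (n : ℕ) (a : k), ∃ g : k[X], ∀ m, p ∣ m → (monomial n a - (g ^ p - g)).coeff m = 0 := by
    intro n
    induction n using Nat.strong_induction_on with
    | _ n ih =>
    intro a
    by_cases hn : p ∣ n
    · rcases Nat.eq_zero_or_pos n with rfl | hn0
      · obtain ⟨b, hb⟩ := IsAlgClosed.exists_root (X ^ p - X - C a : k[X]) (by
          rw [sub_sub, degree_sub_eq_left_of_degree_lt (by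
            rw [degree_X_pow, degree_X_add_C]; exact_mod_cast hp.one_lt), degree_X_pow]
          exact_mod_cast hp.ne_zero)
        refine ⟨C b, fun m _ => ?_⟩
        have e : b ^ p - b = a := by
          simp only [IsRoot, eval_sub, eval_pow, eval_X, eval_C, sub_eq_zero] at hb
          exact hb
        rw [← C_pow, ← C_sub, e, monomial_zero_left, sub_self, coeff_zero]
      · obtain ⟨m₀, rfl⟩ := hn
        obtain ⟨b, hb⟩ := IsAlgClosed.exists_pow_nat_eq a hp.pos
        have hm0 : 0 < m₀ := Nat.pos_of_mul_pos_left hn0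
        obtain ⟨g, hg⟩ := ih m₀ (lt_mul_of_one_lt_left hm0 hp.one_lt) b
        refine ⟨monomial m₀ b + g, fun m hm => ?_⟩
        rw [show monomial (p * m₀) a - ((monomial m₀ b + g) ^ p - (monomial m₀ b + g)) =
          monomial m₀ b - (g ^ p - g) by
            rw [add_pow_char, Polynomial.monomial_pow, hb, mul_comm m₀ p]; ring]
        exact hg m hm
    · refine ⟨0, fun m hm => ?_⟩
      rw [zero_pow hp.ne_zero, sub_zero, sub_zero, coeff_monomial, if_neg]
      rintro rfl
      exact hn hm
  induction f using Polynomial.induction_on' with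
  | add f₁ f₂ h₁ h₂ =>
    obtain ⟨g₁, hg₁⟩ := h₁
    obtain ⟨g₂, hg₂⟩ := h₂
    refine ⟨g₁ + g₂, fun n hn => ?_⟩
    rw [show f₁ + f₂ - ((g₁ + g₂) ^ p - (g₁ + g₂)) = (f₁ - (g₁ ^ p - g₁)) + (f₂ - (g₂ ^ p - g₂)) by
      rw [add_pow_char]; ring, coeff_add, hg₁ n hn, hg₂ n hn, add_zero]
  | monomial n a => exact hmon n a

theorem coeff_pow_char_smul {σ : Type} (g : MvPolynomial σ k) (d : σ →₀ ℕ) :
    (g ^ p).coeff (p • d) = g.coeff d ^ p ∧
      ∀ (e : σ →₀ ℕ) (i : σ), ¬ p ∣ e i → (g ^ p).coeff e = 0 := by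
  have hp : p.Prime := Fact.out
  haveI : ExpChar k p := ExpChar.prime hp
  have hg : g ^ p = MvPolynomial.map (frobenius k p) (MvPolynomial.expand p g) := by
    induction g using MvPolynomial.induction_on' with
    | monomial e r => rw [MvPolynomial.monomial_pow, MvPolynomial.expand_monomial, MvPolynomial.map_monomial, frobenius_def]
    | add a b ha hb => rw [add_pow_char, ha, hb, map_add, map_add]
  constructor
  · rw [hg, MvPolynomial.coeff_map, MvPolynomial.coeff_expand_smul p hp.ne_zero, frobenius_def]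
  · intro e i hi
    rw [hg, MvPolynomial.coeff_map, MvPolynomial.coeff_expand_of_not_dvd _ hi, map_zero]

/-- A solution of `g ^ p - g = h` has no coefficient where the `p`-power multiples of the exponent miss `h`. -/
theorem coeff_eq_zero_of_AS {σ : Type} (g : MvPolynomial σ k) (e : σ →₀ ℕ) (he : e ≠ 0)
    (h : ∀ n : ℕ, (g ^ p - g).coeff (p ^ (n + 1) • e) = 0) : g.coeff e = 0 := by
  have hp : p.Prime := Fact.out
  by_contra hne
  have hall : ∀ n : ℕ, g.coeff (p ^ n • e) ≠ 0 := by
    intro n
    induction n with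
    | zero => simpa using hne
    | succ n ih =>
      have h1 := h n
      rw [MvPolynomial.coeff_sub, show p ^ (n + 1) • e = p • (p ^ n • e) by rw [pow_succ', mul_smul],
        (coeff_pow_char_smul p g _).1, sub_eq_zero] at h1
      rw [show p ^ (n + 1) • e = p • (p ^ n • e) by rw [pow_succ', mul_smul], ← h1]
      exact pow_ne_zero p ih
  have hinj : Function.Injective fun n : ℕ => p ^ n • e := fun a b hab => by
    obtain ⟨i, hi⟩ : ∃ i, e i ≠ 0 := by
      by_contra hno; push Not at hno; exact he (Finsupp.ext hno)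
    have := DFunLike.congr_fun hab i
    simp only [Finsupp.coe_smul, Pi.smul_apply, smul_eq_mul] at this
    exact Nat.pow_right_injective hp.two_le (Nat.eq_of_mul_eq_mul_right (Nat.pos_of_ne_zero hi) this)
  exact (Set.infinite_of_injective_forall_mem hinj fun n => MvPolynomial.mem_support_iff.2 (hall n))
    g.support.finite_toSet

open GrothLib.GaDual in
/-- A reduced polynomial with Artin–Schreier trivial coboundary is linear. -/
theorem eq_linear_of_cobdry (f : k[X]) (hf : ∀ n, p ∣ n → f.coeff n = 0) (g : MvPolynomial (Fin 2) k)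
    (h : g ^ p - g = Polynomial.aeval (MvPolynomial.X 0 + MvPolynomial.X 1 : MvPolynomial (Fin 2) k) f -
      Polynomial.aeval (MvPolynomial.X 0 : MvPolynomial (Fin 2) k) f -
      Polynomial.aeval (MvPolynomial.X 1 : MvPolynomial (Fin 2) k) f) :
    f = C (f.coeff 1) * X ∧ ∃ e : k, g = MvPolynomial.C e ∧ e ^ p = e := by
  have hp : p.Prime := Fact.out
  have hf0 : f.coeff 0 = 0 := hf 0 (dvd_zero p)
  have hlin : f = C (f.coeff 1) * X := by
    ext n
    rw [coeff_C_mul, coeff_X]
    by_cases h1 : 1 = n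
    · subst h1; simp
    rw [if_neg h1, mul_zero]
    by_cases hpn : p ∣ n
    · exact hf n hpn
    obtain ⟨m, rfl⟩ : ∃ m, n = m + 1 := ⟨n - 1, (Nat.succ_pred_eq_of_pos (Nat.pos_of_ne_zero fun h0 : n = 0 => hpn (by rw [h0]; exact dvd_zero p))).symm⟩
    have hm0 : m ≠ 0 := fun h0 => h1 (by omega)
    let e : Fin 2 →₀ ℕ := Finsupp.single 0 m + Finsupp.single 1 1
    have he0 : e 0 = m := by simp [e]
    have he1 : e 1 = 1 := by simp [e]
    have hge : g.coeff e = 0 := coeff_eq_zero_of_AS p g e (fun h0 => by simp [h0] at he1) fun j => by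
      rw [h, ← cf_eq_coeff, cf_sub, cf_sub, cf_aeval_add, cf_aeval_zero, cf_aeval_one]
      simp only [Finsupp.coe_smul, Pi.smul_apply, smul_eq_mul, he0, he1, mul_one]
      rw [if_neg (pow_ne_zero _ hp.ne_zero), if_neg (mul_ne_zero (pow_ne_zero _ hp.ne_zero) hm0),
        hf _ (dvd_add ((dvd_pow_self p j.succ_ne_zero).mul_right m) (dvd_pow_self p j.succ_ne_zero))]
      simp
    have h2 := congrArg (fun q => MvPolynomial.coeff e q) h
    simp only [MvPolynomial.coeff_sub] at h2
    rw [(coeff_pow_char_smul p g 0).2 e 1 (by rw [he1]; exact hp.not_dvd_one), hge,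
      ← cf_eq_coeff, ← cf_eq_coeff, ← cf_eq_coeff, cf_aeval_add, cf_aeval_zero, cf_aeval_one, he0, he1,
      if_neg one_ne_zero, if_neg hm0] at h2
    simp only [sub_zero, sub_self, Nat.choose_succ_self_right] at h2
    refine (mul_eq_zero.1 h2.symm).resolve_left ?_
    rw [CharP.cast_eq_zero_iff k p]
    exact hpn
  refine ⟨hlin, g.coeff 0, ?_, ?_⟩
  · ext d
    rw [MvPolynomial.coeff_C]
    split_ifs with hd
    · rw [hd]
    refine coeff_eq_zero_of_AS p g d (Ne.symm hd) fun j => ?_
    rw [h, hlin]
    simp only [map_mul, aeval_C, aeval_X, mul_add]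
    simp
  · have h2 := congrArg (fun q => MvPolynomial.coeff 0 q) h
    simp only [MvPolynomial.coeff_sub] at h2
    rw [← smul_zero p, (coeff_pow_char_smul p g 0).1, smul_zero, hlin] at h2
    simp only [map_mul, aeval_C, aeval_X, mul_add] at h2
    simpa [sub_eq_zero] using h2

end Groth.Agent.Lib.DimOne16
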