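import Groth.Agent.Lib.DimOne16.Kernel
import Groth.Agent.Lib.DimOne16.Poly
import Groth.Agent.Lib.UnipMu16.Grade

/-!
# An additive character which is a coordinate
-/

universe u

set_option linter.all false

open TensorProduct WithConv Polynomial

noncomputable section

namespace Groth.Agent.Lib.DimOne16

variable {k : Type u} [Field k] [IsAlgClosed k] {A : Type u} [CommRing A] [HopfAlgebra k A]
  [Algebra.FiniteType k A] [IsDomain A]

local notation "εA" => Bialgebra.counitAlgHom k A

omit [IsAlgClosed k] [Algebra.FiniteType k A] [IsDomain A] in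
theorem tr_one (a : A) : GrothLib.AugId.tr ((1 : WithConv (A →ₐ[k] k)).ofConv) a = a := by
  show (toConv ((Algebra.ofId k A).comp (1 : WithConv (A →ₐ[k] k)).ofConv) * toConv (AlgHom.id k A)).ofConv a = a
  rw [GrothLib.Hopf.comp_convOne, show toConv (1 : WithConv (A →ₐ[k] A)).ofConv = 1 from rfl, one_mul]
  rfl

omit [IsAlgClosed k] [Algebra.FiniteType k A] [IsDomain A] in
theorem tr_tr (g h : WithConv (A →ₐ[k] k)) (a : A) :
    GrothLib.AugId.tr g.ofConv (GrothLib.AugId.tr h.ofConv a) = GrothLib.AugId.tr (h * g).ofConv a :=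
  AlgHom.congr_fun (GrothLib.AugId.tr_comp_tr g.ofConv h.ofConv) a

omit [IsAlgClosed k] [Algebra.FiniteType k A] [IsDomain A] in
theorem tr_aeval {x : A} (hx : IsPrim k x) (n : kerPts hx) (P : k[X]) :
    GrothLib.AugId.tr n.1.ofConv (aeval x P) = aeval x P := by
  rw [← Polynomial.aeval_algHom_apply, hx.tr, show n.1.ofConv x = 0 from n.2, map_zero, zero_add]

omit [IsAlgClosed k] [Algebra.FiniteType k A] [IsDomain A] in
theorem eq_map_right {x : A} (π : A →ₗ[k] k[X]) (hπ : ∀ P, π (aeval x P) = P) {S : Set (A →ₐ[k] A)}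
    (hS : ∀ a, (∀ σ ∈ S, σ a = a) → a ∈ Algebra.adjoin k {x}) (T : A ⊗[k] A)
    (hT : ∀ σ ∈ S, Algebra.TensorProduct.map (AlgHom.id k A) σ T = T) :
    TensorProduct.map LinearMap.id ((aeval x).toLinearMap ∘ₗ π) T = T := by
  classical
  let b := Module.Free.chooseBasis k A
  let e := TensorProduct.equivFinsuppOfBasisLeft (M := A) (N := A) b
  have he : ∀ (f : A →ₗ[k] A) (T : A ⊗[k] A) i, e (TensorProduct.map LinearMap.id f T) i = f (e T i) := by
    intro f T i
    induction T using TensorProduct.induction_on with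
    | zero => simp
    | tmul a c =>
      simp only [TensorProduct.map_tmul, LinearMap.id_coe, id_eq, e]
      rw [TensorProduct.equivFinsuppOfBasisLeft_apply_tmul_apply, TensorProduct.equivFinsuppOfBasisLeft_apply_tmul_apply,
        map_smul]
    | add u v hu hv => simp only [map_add, Finsupp.add_apply, hu, hv]
  apply e.injective
  ext i
  rw [he]
  have hmem := hS (e T i) fun σ hσ => by
    have h := he σ.toLinearMap T i
    rw [show TensorProduct.map LinearMap.id σ.toLinearMap T =
      Algebra.TensorProduct.map (AlgHom.id k A) σ T from rfl, hT σ hσ] at h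
    exact h.symm
  rw [Algebra.adjoin_singleton_eq_range_aeval] at hmem
  obtain ⟨P, hP⟩ := hmem
  rw [← hP]
  show aeval x (π (aeval x P)) = aeval x P
  rw [hπ]

/-- Products of polynomials in an additive character, in two variables. -/
def pairEval (x : A) : MvPolynomial (Fin 2) k →ₐ[k] A ⊗[k] A :=
  MvPolynomial.aeval ![x ⊗ₜ[k] (1 : A), (1 : A) ⊗ₜ[k] x]

theorem pairEval_injective {x : A} (hx : IsPrim k x) (hx0 : x ≠ 0) : Function.Injective (pairEval (k := k) x) := by
  have hinf : (Set.range fun g : A →ₐ[k] k => g x).Infinite := by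
    intro hfin
    classical
    have h0 : aeval x (∏ c ∈ hfin.toFinset, (X - C c)) = 0 := GrothLib.Dense.eq_zero_of_forall_point (k := k) _ fun g => by
      rw [map_prod, map_prod]
      refine Finset.prod_eq_zero (hfin.mem_toFinset.2 ⟨g, rfl⟩) ?_
      simp
    rw [← map_zero (aeval (R := k) x)] at h0
    exact (Finset.prod_ne_zero_iff.2 fun c _ => X_sub_C_ne_zero c) (hx.aeval_injective hx0 h0)
  refine (injective_iff_map_eq_zero _).2 fun F hF => ?_
  refine MvPolynomial.funext_set (fun _ => Set.range fun g : A →ₐ[k] k => g x) (fun _ => hinf) fun v hv => ?_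
  obtain ⟨g, hg⟩ := hv 0 (Set.mem_univ _)
  obtain ⟨h, hh⟩ := hv 1 (Set.mem_univ _)
  have h0 := congrArg (Algebra.TensorProduct.lift g h (fun _ _ => Commute.all _ _)) hF
  rw [map_zero] at h0 ⊢
  have e : (Algebra.TensorProduct.lift g h (fun _ _ => Commute.all _ _)).comp (pairEval (k := k) x) =
      MvPolynomial.aeval v := by
    refine MvPolynomial.algHom_ext fun i => ?_
    fin_cases i <;> simp [pairEval] <;> assumption
  rw [← MvPolynomial.aeval_eq_eval]
  exact (AlgHom.congr_fun e F).symm.trans h0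

theorem trace_one (hdim : ringKrullDim A = 1) {x : A} (hx : IsPrim k x) (hx0 : x ≠ 0)
    (hred : ∀ a : A, (∀ g : A →ₐ[k] k, g x = 0 → g a = 0) → a ∈ Ideal.span {x}) [Fintype (kerPts hx)] :
    ∃ u : A, ∑ n : kerPts hx, GrothLib.AugId.tr n.1.ofConv u = 1 := by
  classical
  let Tr : A →ₗ[k] A := ∑ n : kerPts hx, (GrothLib.AugId.tr n.1.ofConv).toLinearMap
  have hTr : ∀ a, Tr a = ∑ n : kerPts hx, GrothLib.AugId.tr n.1.ofConv a := fun a => by simp [Tr]
  have hTr_inv : ∀ a, ∀ m ∈ kerPts hx, GrothLib.AugId.tr m.ofConv (Tr a) = Tr a := fun a m hm => by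
    rw [hTr, map_sum]
    refine Fintype.sum_equiv (Equiv.mulRight (⟨m, hm⟩ : kerPts hx)) _ _ fun n => ?_
    rw [tr_tr]; rfl
  have hTr_mul : ∀ (P : k[X]) a, Tr (aeval x P * a) = aeval x P * Tr a := fun P a => by
    rw [hTr, hTr, Finset.mul_sum]
    exact Finset.sum_congr rfl fun n _ => by rw [map_mul, tr_aeval hx n P]
  have hTr_R : ∀ a, ∃ P : k[X], aeval x P = Tr a := fun a => by
    have h := mem_adjoin_of_invariant hdim hx hred (hTr_inv a)
    rw [Algebra.adjoin_singleton_eq_range_aeval] at h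
    exact h
  let I : Ideal k[X] :=
    { carrier := {P | ∃ a, Tr a = aeval x P}
      add_mem' := by rintro P Q ⟨a, ha⟩ ⟨b, hb⟩; exact ⟨a + b, by rw [map_add, map_add, ha, hb]⟩
      zero_mem' := ⟨0, by simp⟩
      smul_mem' := by rintro Q P ⟨a, ha⟩; exact ⟨aeval x Q * a, by rw [hTr_mul, ha, smul_eq_mul, map_mul]⟩ }
  obtain ⟨t, ht1, ht0⟩ := exists_delta (k := k)
    ((Finset.univ.filter fun n : kerPts hx => n ≠ 1).image fun n : kerPts hx => n.1.ofConv) (by
      rw [Finset.mem_image]
      rintro ⟨n, hn, he⟩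
      refine (Finset.mem_filter.1 hn).2 (Subtype.ext (WithConv.ofConv_injective ?_))
      rw [he]
      refine AlgHom.ext fun a => ?_
      rw [show (((1 : kerPts hx) : WithConv (A →ₐ[k] k))).ofConv a = (1 : WithConv (A →ₐ[k] k)) a from rfl,
        AlgHom.convOne_apply]
      simp)
  have hεTr : εA (Tr t) = 1 := by
    rw [hTr, map_sum, Finset.sum_eq_single (1 : kerPts hx) (fun n _ hn => ?_) (by simp)]
    · rw [show ((1 : kerPts hx) : WithConv (A →ₐ[k] k)) = 1 from rfl, tr_one, ht1]
    · rw [← AlgHom.comp_apply, GrothLib.AugId.counit_tr]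
      exact ht0 _ (Finset.mem_image_of_mem _ (Finset.mem_filter.2 ⟨Finset.mem_univ n, hn⟩))
  have htop : I.map (aeval (R := k) x : k[X] →+* A) = ⊤ := by
    by_contra hne
    obtain ⟨m, hm, hle⟩ := Ideal.exists_le_maximal _ hne
    haveI := hm
    obtain ⟨h, rfl⟩ := exists_point (k := k) m
    let h' := GrothLib.AugId.pinv h
    obtain ⟨P, hP⟩ := hTr_R (GrothLib.AugId.tr h' t)
    have h1 : h (aeval x P) = 0 := hle (Ideal.mem_map_of_mem _ (show P ∈ I from ⟨_, hP.symm⟩))
    have hcomm : Tr (GrothLib.AugId.tr h' t) = GrothLib.AugId.tr h' (Tr t) := by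
      rw [hTr, hTr, map_sum]
      refine Finset.sum_congr rfl fun n _ => ?_
      rw [← ofConv_toConv h', tr_tr, tr_tr, points_comm hdim]
    rw [hP, hcomm, GrothLib.AugId.apply_tr_pinv, hεTr] at h1
    exact one_ne_zero h1
  obtain ⟨q, hq⟩ := (IsPrincipalIdealRing.principal I).principal
  have hqu : IsUnit (aeval (R := k) x q) := by
    rw [← Ideal.span_singleton_eq_top, ← htop, show I = Ideal.span {q} from hq, Ideal.map_span, Set.image_singleton]
    rfl
  obtain ⟨b, hb⟩ := hqu.exists_right_inv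
  have hbR := mem_adjoin_of_invariant hdim hx hred (a := b) fun n hn => by
    have h := congrArg (GrothLib.AugId.tr n.ofConv) hb
    rw [map_mul, map_one, tr_aeval hx ⟨n, hn⟩] at h
    exact hqu.mul_left_cancel (h.trans hb.symm)
  rw [Algebra.adjoin_singleton_eq_range_aeval] at hbR
  obtain ⟨Q, rfl⟩ := hbR
  obtain ⟨u, hu⟩ : (1 : k[X]) ∈ I := by
    have h1 : q * Q = 1 := hx.aeval_injective hx0 (by rw [map_mul, map_one]; exact hb)
    rw [← h1]
    exact I.mul_mem_right Q (hq ▸ Submodule.mem_span_singleton_self q)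
  exact ⟨u, by rw [← hTr, hu, map_one]⟩

/-- The Artin–Schreier step: a nontrivial kernel produces a larger principal ideal. -/
theorem exists_larger (p : ℕ) [Fact p.Prime] [CharP k p] (hdim : ringKrullDim A = 1) {x : A} (hx : IsPrim k x)
    (hx0 : x ≠ 0) (hred : ∀ a : A, (∀ g : A →ₐ[k] k, g x = 0 → g a = 0) → a ∈ Ideal.span {x})
    (hne : ∃ n ∈ kerPts hx, n ≠ 1) : ∃ z : A, IsPrim k z ∧ z ≠ 0 ∧ Ideal.span {x} < Ideal.span {z} := by
  classical
  have hp : p.Prime := Fact.out
  haveI := finite_kerPts hdim hx hx0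
  letI := Fintype.ofFinite (kerPts hx)
  letI : CommGroup (kerPts hx) :=
    { (inferInstance : Group (kerPts hx)) with mul_comm := fun a b => Subtype.ext (points_comm hdim a.1 b.1) }
  haveI : Nontrivial (kerPts hx) := by
    obtain ⟨n, hn, hn1⟩ := hne
    exact ⟨⟨⟨n, hn⟩, 1, fun h => hn1 (congrArg Subtype.val h)⟩⟩
  haveI : Group.FG (kerPts hx) := Group.fg_of_finite
  obtain ⟨l, hl, ψ, hψ⟩ := GrothLib.UnipMu16.exists_surjective_zmod (H := kerPts hx)
  have hlp : l = p := by
    obtain ⟨n, hn⟩ := hψ (Multiplicative.ofAdd 1)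
    obtain ⟨a, m, hm, hord⟩ := Nat.exists_eq_pow_mul_and_not_dvd (orderOf_pos n).ne' p hp.ne_one
    have h1 : n ^ p ^ a = 1 := Subtype.ext (eq_one_of_pow hdim hx hx0 (m := m)
      (by rwa [ringChar.eq k p])
      (by rw [← SubgroupClass.coe_pow, ← pow_mul, ← hord, pow_orderOf_eq_one]; rfl))
    have h2 := congrArg ψ h1
    rw [map_pow, map_one, hn, ← ofAdd_nsmul, ← ofAdd_zero, EmbeddingLike.apply_eq_iff_eq, nsmul_one,
      ZMod.natCast_eq_zero_iff] at h2 <;> try rfl
    exact (Nat.prime_dvd_prime_iff_eq hl hp).1 (hl.dvd_of_dvd_pow h2)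
  subst hlp
  let χ : kerPts hx → k := fun n => ZMod.castHom (dvd_refl l) k (Multiplicative.toAdd (ψ n))
  have hχ : ∀ m n, χ (m * n) = χ m + χ n := fun m n => by
    simp only [χ]; rw [map_mul, toAdd_mul, map_add]
  have hχp : ∀ n, χ n ^ l = χ n := fun n => by
    simp only [χ]; rw [← map_pow, ZMod.pow_card]
  haveI : ExpChar k l := ExpChar.prime hp
  haveI : CharP A l := charP_of_injective_algebraMap (algebraMap k A).injective l
  obtain ⟨u, hu⟩ := trace_one hdim hx hx0 hred
  let y : A := -∑ n : kerPts hx, algebraMap k A (χ n) * GrothLib.AugId.tr n.1.ofConv u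
  have hy : ∀ m : kerPts hx, GrothLib.AugId.tr m.1.ofConv y = y + algebraMap k A (χ m) := by
    intro m
    simp only [y]
    rw [map_neg, map_sum, eq_comm, ← sub_eq_zero]
    have e : ∑ n : kerPts hx, GrothLib.AugId.tr m.1.ofConv (algebraMap k A (χ n) * GrothLib.AugId.tr n.1.ofConv u) =
        ∑ n : kerPts hx, (algebraMap k A (χ n) - algebraMap k A (χ m)) * GrothLib.AugId.tr n.1.ofConv u := by
      refine Fintype.sum_equiv (Equiv.mulRight m) _ _ fun n => ?_
      rw [map_mul, AlgHom.commutes, tr_tr, Equiv.coe_mulRight, hχ, map_add, add_sub_cancel_right]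
      rfl
    rw [e]
    simp only [sub_mul, Finset.sum_sub_distrib, ← Finset.mul_sum, hu]
    ring
  have hAS : ∀ m ∈ kerPts hx, GrothLib.AugId.tr m.ofConv (y ^ l - y) = y ^ l - y := fun m hm => by
    rw [map_sub, map_pow, hy ⟨m, hm⟩, add_pow_char, ← map_pow, hχp]
    ring
  have hmem := mem_adjoin_of_invariant hdim hx hred hAS
  rw [Algebra.adjoin_singleton_eq_range_aeval] at hmem
  obtain ⟨f₀, hf₀⟩ := hmem
  have hf₀' : aeval x f₀ = y ^ l - y := hf₀
  obtain ⟨g₀, hg₀⟩ := exists_reduced l f₀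
  set f := f₀ - (g₀ ^ l - g₀) with hf_def
  let y₁ : A := y - aeval x g₀
  have hy₁ : ∀ m : kerPts hx, GrothLib.AugId.tr m.1.ofConv y₁ = y₁ + algebraMap k A (χ m) := fun m => by
    simp only [y₁, map_sub, hy, tr_aeval hx]; ring
  have hy₁p : y₁ ^ l - y₁ = aeval x f := by
    simp only [y₁, f, map_sub, map_pow, sub_pow_char, hf₀']; ring
  let E : A ⊗[k] A := Coalgebra.comul (R := k) y₁ - y₁ ⊗ₜ[k] 1 - 1 ⊗ₜ[k] y₁
  have hEval : ∀ g h : A →ₐ[k] k, Algebra.TensorProduct.lift g h (fun _ _ => Commute.all _ _) E =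
      (toConv g * toConv h) y₁ - g y₁ - h y₁ := fun g h => by
    simp only [E, map_sub, Algebra.TensorProduct.lift_tmul, map_one, mul_one, one_mul, AlgHom.convMul_apply]
  have hshift : ∀ (n : kerPts hx) (h : WithConv (A →ₐ[k] k)), (n.1 * h) y₁ = h y₁ + χ n := fun n h => by
    have e := congrArg h.ofConv (hy₁ n)
    rw [← AlgHom.comp_apply, GrothLib.AugId.comp_tr, map_add, AlgHom.commutes] at e
    exact e
  let S : Set (A →ₐ[k] A) := Set.range fun n : kerPts hx => GrothLib.AugId.tr n.1.ofConv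
  have hS : ∀ a, (∀ σ ∈ S, σ a = a) → a ∈ Algebra.adjoin k {x} := fun a ha =>
    mem_adjoin_of_invariant hdim hx hred fun n hn => ha _ ⟨⟨n, hn⟩, rfl⟩
  obtain ⟨π, hπ⟩ := LinearMap.exists_leftInverse_of_injective (aeval (R := k) x).toLinearMap
    (LinearMap.ker_eq_bot.2 (hx.aeval_injective hx0))
  have hπ' : ∀ P, π (aeval x P) = P := fun P => LinearMap.congr_fun hπ P
  have hright : ∀ T : A ⊗[k] A, (∀ (n : kerPts hx) (g h : A →ₐ[k] k),
      Algebra.TensorProduct.lift g (h.comp (GrothLib.AugId.tr n.1.ofConv)) (fun _ _ => Commute.all _ _) T =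
        Algebra.TensorProduct.lift g h (fun _ _ => Commute.all _ _) T) →
      TensorProduct.map LinearMap.id ((aeval x).toLinearMap ∘ₗ π) T = T := by
    intro T hT
    refine eq_map_right π hπ' hS T ?_
    rintro _ ⟨n, rfl⟩
    refine sub_eq_zero.1 (tensor_eq_zero _ fun g h => ?_)
    rw [map_sub, sub_eq_zero, ← AlgHom.comp_apply]
    refine Eq.trans (AlgHom.congr_fun ?_ T) (hT n g h)
    exact Algebra.TensorProduct.ext' fun a b => by simp
  have hcommE : TensorProduct.comm k A A E = E := by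
    refine sub_eq_zero.1 (tensor_eq_zero _ fun g h => ?_)
    have e1 : ∀ t : A ⊗[k] A, Algebra.TensorProduct.lift g h (fun _ _ => Commute.all _ _) (TensorProduct.comm k A A t) =
        Algebra.TensorProduct.lift h g (fun _ _ => Commute.all _ _) t := fun t => by
      induction t using TensorProduct.induction_on with
      | zero => simp
      | tmul a b => simp [mul_comm]
      | add a b ha hb => simp only [map_add, ha, hb]
    rw [map_sub, e1, hEval, hEval, points_comm hdim (toConv h)]
    ring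
  have hE1 : TensorProduct.map LinearMap.id ((aeval x).toLinearMap ∘ₗ π) E = E := by
    refine hright E fun n g h => ?_
    rw [hEval, hEval]
    have e1 : toConv (h.comp (GrothLib.AugId.tr n.1.ofConv)) = n.1 * toConv h := by
      rw [GrothLib.AugId.comp_tr, toConv_ofConv]
    have e2 : (toConv g * (n.1 * toConv h)) y₁ = (toConv g * toConv h) y₁ + χ n := by
      rw [← _root_.mul_assoc, points_comm hdim (toConv g), _root_.mul_assoc, hshift]
    have e3 : h.comp (GrothLib.AugId.tr n.1.ofConv) y₁ = (n.1 * toConv h) y₁ := congrArg (fun q => q.ofConv y₁) e1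
    rw [e1, e2, e3, hshift]
    ring
  have hEmem : E ∈ (pairEval (k := k) x).range := by
    have h2 : TensorProduct.map ((aeval x).toLinearMap ∘ₗ π) ((aeval x).toLinearMap ∘ₗ π) E = E := by
      have e : TensorProduct.map ((aeval x).toLinearMap ∘ₗ π) ((aeval x).toLinearMap ∘ₗ π) E =
          TensorProduct.comm k A A (TensorProduct.map LinearMap.id ((aeval x).toLinearMap ∘ₗ π)
            (TensorProduct.comm k A A (TensorProduct.map LinearMap.id ((aeval x).toLinearMap ∘ₗ π) E))) := by
        generalize E = T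
        induction T using TensorProduct.induction_on with
        | zero => simp
        | tmul a b => simp
        | add a b ha hb => simp only [map_add, ha, hb]
      rw [e, hE1, hcommE, hE1, hcommE]
    rw [← h2]
    generalize E = T
    induction T using TensorProduct.induction_on with
    | zero => simp
    | tmul a b =>
      refine ⟨aeval (MvPolynomial.X 0) (π a) * aeval (MvPolynomial.X 1) (π b), ?_⟩
      show pairEval (k := k) x _ = _
      rw [TensorProduct.map_tmul, map_mul, ← Polynomial.aeval_algHom_apply, ← Polynomial.aeval_algHom_apply]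
      simp only [pairEval, MvPolynomial.aeval_X, Matrix.cons_val_zero, Matrix.cons_val_one, LinearMap.comp_apply,
        AlgHom.toLinearMap_apply]
      rw [← Algebra.TensorProduct.includeLeft_apply (R := k) (S := k), ← Algebra.TensorProduct.includeRight_apply,
        Polynomial.aeval_algHom_apply, Polynomial.aeval_algHom_apply]
      simp
    | add a b ha hb => rw [map_add]; exact add_mem ha hb
  obtain ⟨g, hg⟩ := hEmem
  have hg' : pairEval (k := k) x g = E := hg
  haveI : Nontrivial (A ⊗[k] A) :=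
    ((εA).comp (Algebra.TensorProduct.lmul' k : A ⊗[k] A →ₐ[k] A)).toRingHom.domain_nontrivial
  haveI : CharP (A ⊗[k] A) l := charP_of_injective_algebraMap (algebraMap k (A ⊗[k] A)).injective l
  have hgeq : g ^ l - g = Polynomial.aeval (MvPolynomial.X 0 + MvPolynomial.X 1 : MvPolynomial (Fin 2) k) f -
      Polynomial.aeval (MvPolynomial.X 0 : MvPolynomial (Fin 2) k) f -
      Polynomial.aeval (MvPolynomial.X 1 : MvPolynomial (Fin 2) k) f := by
    apply pairEval_injective hx hx0
    simp only [map_sub, map_pow, hg', ← Polynomial.aeval_algHom_apply, map_add]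
    simp only [pairEval, MvPolynomial.aeval_X, Matrix.cons_val_zero, Matrix.cons_val_one]
    rw [show x ⊗ₜ[k] (1 : A) + (1 : A) ⊗ₜ[k] x = Bialgebra.comulAlgHom k A x from
        (show Coalgebra.comul (R := k) x = _ from hx).symm,
      ← Algebra.TensorProduct.includeLeft_apply (R := k) (S := k), ← Algebra.TensorProduct.includeRight_apply,
      Polynomial.aeval_algHom_apply, Polynomial.aeval_algHom_apply, Polynomial.aeval_algHom_apply, ← hy₁p]
    simp only [E, sub_pow_char, Algebra.TensorProduct.includeLeft_apply, Algebra.TensorProduct.includeRight_apply,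
      Algebra.TensorProduct.tmul_pow, one_pow, Bialgebra.comulAlgHom_apply, map_sub, map_pow, TensorProduct.sub_tmul,
      TensorProduct.tmul_sub, Bialgebra.comul_pow]
    ring
  obtain ⟨hflin, e, rfl, he⟩ := eq_linear_of_cobdry l f (fun n hn => hg₀ n hn) g hgeq
  let z : A := y₁ + algebraMap k A e
  have hz : IsPrim k z := by
    have h := hg'
    rw [pairEval, MvPolynomial.aeval_C] at h
    show Coalgebra.comul (R := k) z = _
    have hΔ : Coalgebra.comul (R := k) y₁ = E + y₁ ⊗ₜ[k] 1 + 1 ⊗ₜ[k] y₁ := by simp only [E]; abel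
    simp only [z]
    rw [map_add, hΔ, ← h, Bialgebra.comul_algebraMap, TensorProduct.add_tmul, TensorProduct.tmul_add,
      Algebra.TensorProduct.algebraMap_apply]
    rw [show (1 : A) ⊗ₜ[k] algebraMap k A e = algebraMap k A e ⊗ₜ[k] (1 : A) by
      rw [Algebra.algebraMap_eq_smul_one, TensorProduct.tmul_smul, TensorProduct.smul_tmul']]
    abel
  have hzp : z ^ l - z = algebraMap k A (f.coeff 1) * x := by
    simp only [z, add_pow_char, ← map_pow, he]
    rw [show y₁ ^ l + algebraMap k A e - (y₁ + algebraMap k A e) = y₁ ^ l - y₁ by ring, hy₁p]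
    conv_lhs => rw [hflin]
    simp
  obtain ⟨n, hn⟩ : ∃ n : kerPts hx, n.1 z ≠ 0 := by
    by_contra hno
    push Not at hno
    obtain ⟨n, hn⟩ := hψ (Multiplicative.ofAdd 1)
    have h1 := hno n
    have h2 := hno 1
    have e2 := congrArg (1 : WithConv (A →ₐ[k] k)).ofConv (hy₁ n)
    rw [← AlgHom.comp_apply, GrothLib.AugId.comp_tr, map_add, AlgHom.commutes,
      show toConv n.1.ofConv * toConv (1 : WithConv (A →ₐ[k] k)).ofConv = n.1 from mul_one _] at e2
    simp only [z, map_add, AlgHom.commutes] at h1 h2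
    have : χ n = 0 := by
      have h1' : n.1.ofConv y₁ + e = 0 := h1
      have h2' : (1 : WithConv (A →ₐ[k] k)).ofConv y₁ + e = 0 := h2
      have e2' : n.1.ofConv y₁ = (1 : WithConv (A →ₐ[k] k)).ofConv y₁ + χ n := e2
      linear_combination h1' - h2' - e2'
    simp [χ, hn] at this
  have hz0 : z ≠ 0 := fun h => hn (by rw [h]; exact map_zero _)
  have hc : f.coeff 1 ≠ 0 := by
    intro hc
    rw [hc, map_zero, zero_mul, sub_eq_zero] at hzp
    have := hz.aeval_injective hz0 (show aeval z (X ^ l : k[X]) = aeval z X by simpa using hzp)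
    have h2 := congrArg natDegree this
    rw [natDegree_X_pow, natDegree_X] at h2
    exact hp.one_lt.ne' h2
  refine ⟨z, hz, hz0, lt_of_le_of_ne ?_ fun h => ?_⟩
  · rw [Ideal.span_singleton_le_iff_mem]
    have hmem : algebraMap k A (f.coeff 1)⁻¹ * (z ^ l - z) ∈ Ideal.span {z} :=
      Ideal.mul_mem_left _ _ (sub_mem (Ideal.pow_mem_of_mem _ (Ideal.mem_span_singleton_self z) _ hp.pos)
        (Ideal.mem_span_singleton_self z))
    rwa [hzp, ← _root_.mul_assoc, ← map_mul, inv_mul_cancel₀ hc, map_one, one_mul] at hmem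
  · obtain ⟨c, hc'⟩ := Ideal.mem_span_singleton.1 (h.symm ▸ Ideal.mem_span_singleton_self z)
    refine hn ?_
    show n.1.ofConv z = 0
    rw [hc', map_mul, show n.1.ofConv x = 0 from n.2, zero_mul]

/-- A nonzero additive character yields one which is a coordinate. -/
theorem exists_primitive_coordinate (hdim : ringKrullDim A = 1) (hex : ∃ x : A, IsPrim k x ∧ x ≠ 0) :
    ∃ x : A, IsPrim k x ∧ x ≠ 0 ∧ Algebra.adjoin k {x} = ⊤ := by
  classical
  haveI : IsNoetherianRing A := Algebra.FiniteType.isNoetherianRing k A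
  obtain ⟨M, ⟨x, hx, hx0, rfl⟩, hmax⟩ := set_has_maximal_iff_noetherian.2 (inferInstanceAs (IsNoetherian A A))
    {I : Ideal A | ∃ z, IsPrim k z ∧ z ≠ 0 ∧ Ideal.span {z} = I} (by obtain ⟨x, hx, hx0⟩ := hex; exact ⟨_, x, hx, hx0, rfl⟩)
  obtain ⟨t, δ, hδ, hδt, ht, hJ⟩ := exists_param (k := k) (A := A) hdim
  obtain ⟨p, hp⟩ := CharP.exists k
  have hδx : δ x ≠ 0 := by
    intro h
    rcases CharP.char_is_prime_or_zero k p with hpp | hp0
    · haveI : Fact p.Prime := ⟨hpp⟩
      obtain ⟨z, hz, hzP⟩ := exists_root_of_tangent_zero p hdim hδ hδt ht hJ hx h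
      have hz0 : z ≠ 0 := by rintro rfl; rw [zero_pow hpp.ne_zero] at hz; exact hx0 hz.symm
      refine hmax _ ⟨z, hzP, hz0, rfl⟩ (lt_of_le_of_ne ?_ fun e => ?_)
      · exact (Ideal.span_singleton_le_iff_mem _).2 (hz ▸ Ideal.pow_mem_of_mem _ (Ideal.mem_span_singleton_self z) _ hpp.pos)
      · obtain ⟨c, hc⟩ := Ideal.mem_span_singleton.1 (e.symm ▸ Ideal.mem_span_singleton_self z)
        rw [← hz, show p = 1 + (p - 1) by have := hpp.pos; omega, pow_add, pow_one, _root_.mul_assoc] at hc
        have hu : z ^ (p - 1) * c = 1 := mul_left_cancel₀ hz0 (hc.symm.trans (mul_one z).symm)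
        have hzu : IsUnit z := (isUnit_pow_iff (by have := hpp.two_le; omega)).1 (IsUnit.of_mul_eq_one _ hu)
        have := hzu.map εA
        rw [IsPrim.counit hzP] at this
        exact not_isUnit_zero this
    · subst hp0
      haveI := CharP.charP_to_charZero k
      exact hx0 (eq_zero_of_tangent_zero hdim hδ hδt ht hJ hx h)
  have hred : ∀ a : A, (∀ g : A →ₐ[k] k, g x = 0 → g a = 0) → a ∈ Ideal.span {x} :=
    fun a => mem_span_of_vanish hdim hx hδ hδt ht hJ hδx
  refine ⟨x, hx, hx0, ?_⟩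
  by_cases hne : ∃ n ∈ kerPts hx, n ≠ 1
  · exfalso
    rcases CharP.char_is_prime_or_zero k p with hpp | hp0
    · haveI : Fact p.Prime := ⟨hpp⟩
      obtain ⟨z, hz, hz0, hlt⟩ := exists_larger p hdim hx hx0 hred hne
      exact hmax _ ⟨z, hz, hz0, rfl⟩ hlt
    · subst hp0
      obtain ⟨n, hn, hn1⟩ := hne
      haveI := finite_kerPts hdim hx hx0
      refine hn1 (eq_one_of_pow hdim hx hx0 (m := Nat.card (kerPts hx)) ?_ ?_)
      · rw [ringChar.eq k 0]
        exact fun h => Nat.card_pos.ne' (zero_dvd_iff.1 h)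
      · exact congrArg Subtype.val (pow_card_eq_one' (x := (⟨n, hn⟩ : kerPts hx)))
  · push Not at hne
    refine eq_top_iff.2 fun a _ => mem_adjoin_of_invariant hdim hx hred fun n hn => ?_
    rw [hne n hn, tr_one]

end Groth.Agent.Lib.DimOne16
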