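import Groth.Agent.Lib.Hopf.Sub
import Groth.Agent.Lib.Hopf.Faithful
import Groth.Agent.Lib.Hopf.Translate
import Groth.Agent.Lib.HopfAG.UnipPrim
import Mathlib.RingTheory.HopfAlgebra.Convolution

/-!
# Elements invariant modulo a sub-Hopf algebra
-/

universe u

set_option linter.all false

open TensorProduct WithConv

noncomputable section

namespace Groth.Agent.Lib.DimOne16

variable {k : Type u} [Field k] {A : Type u} [CommRing A] [HopfAlgebra k A]

/-- The ideal cut out by the augmentation ideal of a subalgebra. -/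
def augIdeal (R : Subalgebra k A) : Ideal A :=
  Ideal.span {r | r ∈ R ∧ Bialgebra.counitAlgHom k A r = 0}

theorem cancel₁ {H C : Type u} [CommRing H] [HopfAlgebra k H] [CommRing C] [Algebra k C]
    (a b : WithConv (H →ₐ[k] C)) : a * (GrothLib.Hopf.pinv a * b) = b := by
  rw [← _root_.mul_assoc, GrothLib.Hopf.mul_pinv, one_mul]

theorem cancel₂ {H C : Type u} [CommRing H] [HopfAlgebra k H] [CommRing C] [Algebra k C]
    (a b : WithConv (H →ₐ[k] C)) : GrothLib.Hopf.pinv a * (a * b) = b := by
  rw [← _root_.mul_assoc, GrothLib.Hopf.pinv_mul, one_mul]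

/-- An element invariant modulo a sub-Hopf algebra lies in it. -/
theorem mem_of_invariant {R : Subalgebra k A} (hR : SGA3.IsHopfSubalgebra k A R) (a : A)
    (ha : Coalgebra.comul (R := k) a - a ⊗ₜ[k] (1 : A) ∈
      LinearMap.range (((augIdeal R).restrictScalars k).subtype.lTensor A)) : a ∈ R := by
  classical
  letI := GrothLib.Hopf.Sub.hopfAlgebra hR
  let ι := GrothLib.Hopf.Sub.valHom hR
  haveI : Module.FaithfullyFlat R A :=
    GrothLib.Hopf.faithfullyFlat ι (fun b => rfl) Subtype.val_injective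
  let T := A ⊗[R] A
  let u : A →ₐ[k] T := Algebra.TensorProduct.includeLeft
  let v : A →ₐ[k] T := (Algebra.TensorProduct.includeRight : A →ₐ[R] A ⊗[R] A).restrictScalars k
  have huv : u.comp (ι : R →ₐ[k] A) = v.comp (ι : R →ₐ[k] A) := AlgHom.ext fun r => by
    show (algebraMap R A r) ⊗ₜ[R] (1 : A) = (1 : A) ⊗ₜ[R] (algebraMap R A r)
    rw [Algebra.algebraMap_eq_smul_one, TensorProduct.smul_tmul]
  let w : A →ₐ[k] T := (GrothLib.Hopf.pinv (toConv u) * toConv v).ofConv
  have hw : ∀ r ∈ R, w r = algebraMap k T (Bialgebra.counitAlgHom k A r) := by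
    intro r hr
    have h1 : toConv (w.comp (ι : R →ₐ[k] A)) = 1 := by
      have h2 : toConv ((toConv u * toConv w).ofConv.comp (ι : R →ₐ[k] A)) =
          toConv (v.comp (ι : R →ₐ[k] A)) := by
        rw [show toConv w = GrothLib.Hopf.pinv (toConv u) * toConv v from rfl, cancel₁]
      rw [GrothLib.Hopf.convMul_comp_bialgHom, ← huv] at h2
      have h3 := congrArg (GrothLib.Hopf.pinv (toConv (u.comp (ι : R →ₐ[k] A))) * ·) h2
      simp only [ofConv_toConv] at h3
      rwa [cancel₂, GrothLib.Hopf.pinv_mul] at h3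
    have h3 := congrArg (fun f => f.ofConv ⟨r, hr⟩) h1
    exact h3
  let U : A ⊗[k] A →ₐ[k] T := Algebra.TensorProduct.lift u w (fun _ _ => Commute.all _ _)
  have hU : U (Coalgebra.comul (R := k) a) = v a := by
    have h1 : toConv u * toConv w = toConv v := by
      rw [show toConv w = GrothLib.Hopf.pinv (toConv u) * toConv v from rfl, cancel₁]
    have h2 := congrArg (fun f => f.ofConv a) h1
    refine Eq.trans ?_ h2
    show _ = (toConv u * toConv w) a
    rw [AlgHom.convMul_apply]
  have hkill : ∀ z ∈ augIdeal R, w z = 0 := by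
    intro z hz
    induction hz using Submodule.span_induction with
    | mem r hr => rw [hw r hr.1, hr.2, map_zero]
    | zero => simp
    | add p q _ _ hp hq => rw [map_add, hp, hq, add_zero]
    | smul c p _ hp => rw [smul_eq_mul, map_mul, hp, mul_zero]
  have h0 : U (Coalgebra.comul (R := k) a - a ⊗ₜ[k] (1 : A)) = 0 := by
    obtain ⟨t, ht⟩ := ha
    rw [← ht]
    clear ht
    induction t using TensorProduct.induction_on with
    | zero => simp
    | tmul x y =>
      show U (x ⊗ₜ[k] (y : A)) = 0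
      rw [Algebra.TensorProduct.lift_tmul, hkill _ y.2, mul_zero]
    | add p q hp hq => rw [map_add, map_add, hp, hq, add_zero]
  rw [map_sub, hU, Algebra.TensorProduct.lift_tmul, map_one, mul_one, sub_eq_zero] at h0
  -- descent
  let q : A →ₗ[R] A ⧸ LinearMap.range (Algebra.linearMap R A) := Submodule.mkQ _
  have hq1 : q (1 : A) = 0 := (Submodule.Quotient.mk_eq_zero _).2 ⟨1, map_one (algebraMap R A)⟩
  have h4 := congrArg (q.lTensor A) h0
  replace h4 : (1 : A) ⊗ₜ[R] q a = a ⊗ₜ[R] q 1 := h4
  rw [hq1, TensorProduct.tmul_zero] at h4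
  have h5 : q a = 0 := Module.FaithfullyFlat.tensorProduct_mk_injective (A := R) (B := A) _ (by
    show (1 : A) ⊗ₜ[R] q a = (1 : A) ⊗ₜ[R] 0
    rw [h4, TensorProduct.tmul_zero])
  obtain ⟨r, hr⟩ := (Submodule.Quotient.mk_eq_zero _).1 h5
  exact hr ▸ r.2

/-- The subalgebra generated by a primitive element is a sub-Hopf algebra. -/
theorem isHopfSubalgebra_adjoin {x : A}
    (hx : Coalgebra.comul (R := k) x = x ⊗ₜ[k] (1 : A) + (1 : A) ⊗ₜ[k] x) :
    SGA3.IsHopfSubalgebra k A (Algebra.adjoin k {x}) := by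
  have hS : HopfAlgebraStruct.antipode k x = -x := by
    have h := HopfAlgebra.mul_antipode_rTensor_comul_apply (R := k) x
    rw [hx, map_add, map_add, LinearMap.rTensor_tmul, LinearMap.rTensor_tmul] at h
    simp only [LinearMap.mul'_apply, mul_one, HopfAlgebra.antipode_one, one_mul,
      GrothLib.Unip.counit_of_primitive hx, map_zero] at h
    exact eq_neg_of_add_eq_zero_left h
  let B := Algebra.adjoin k {x}
  refine ⟨fun b hb => ?_, fun b hb => ?_⟩
  · show Bialgebra.comulAlgHom k A b ∈ LinearMap.range (TensorProduct.map B.val.toLinearMap B.val.toLinearMap)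
    suffices h : Bialgebra.comulAlgHom k A b ∈ (Algebra.TensorProduct.map B.val B.val).range from h
    have hle : B.map (Bialgebra.comulAlgHom k A) ≤ (Algebra.TensorProduct.map B.val B.val).range := by
      rw [AlgHom.map_adjoin, Set.image_singleton, Algebra.adjoin_le_iff, Set.singleton_subset_iff]
      refine ⟨⟨x, Algebra.subset_adjoin rfl⟩ ⊗ₜ[k] (1 : B) + (1 : B) ⊗ₜ[k] ⟨x, Algebra.subset_adjoin rfl⟩, ?_⟩
      show Algebra.TensorProduct.map B.val B.val _ = Coalgebra.comul (R := k) x
      rw [map_add, hx]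
      rfl
    exact hle ⟨b, hb, rfl⟩
  · have hle : B.map (HopfAlgebra.antipodeAlgHom k A) ≤ B := by
      rw [AlgHom.map_adjoin, Set.image_singleton, Algebra.adjoin_le_iff, Set.singleton_subset_iff]
      show HopfAlgebraStruct.antipode k x ∈ B
      rw [hS]
      exact neg_mem (Algebra.subset_adjoin rfl)
    exact hle ⟨b, hb, rfl⟩

theorem augIdeal_adjoin_le {x : A} (hε : Bialgebra.counitAlgHom k A x = 0) :
    augIdeal (Algebra.adjoin k {x}) ≤ Ideal.span {x} := by
  refine Ideal.span_le.2 ?_
  rintro r ⟨hr, hr0⟩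
  rw [Algebra.adjoin_singleton_eq_range_aeval] at hr
  obtain ⟨f, rfl⟩ := hr
  have hc : f.eval 0 = 0 := by
    have h := Polynomial.aeval_algHom_apply (Bialgebra.counitAlgHom k A) x f
    rw [hε] at h
    rw [← Polynomial.coe_aeval_eq_eval]
    exact h.trans hr0
  rw [← Polynomial.coeff_zero_eq_eval_zero, ← Polynomial.X_dvd_iff] at hc
  obtain ⟨g, rfl⟩ := hc
  show Polynomial.aeval x (Polynomial.X * g) ∈ _
  rw [map_mul, Polynomial.aeval_X]
  exact Ideal.mul_mem_right _ _ (Ideal.mem_span_singleton_self x)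

end Groth.Agent.Lib.DimOne16
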