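import Groth.Agent.Lib.DimOne16.Basic
import Groth.Agent.Lib.DimOne16.Sub
import Groth.Agent.Lib.AugId.Dim
import Groth.Agent.Lib.AugId.Infinitesimal
import Groth.Agent.Lib.GrpSchField.Criteria
import Groth.Agent.S8012

/-!
# The tangent line of a one-dimensional group and primitive elements
-/

universe u

set_option linter.all false

open TensorProduct CategoryTheory AlgebraicGeometry

noncomputable section

namespace Groth.Agent.Lib.DimOne16

variable {k : Type u} [Field k] [IsAlgClosed k] {A : Type u} [CommRing A] [HopfAlgebra k A]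
  [Algebra.FiniteType k A] [IsDomain A]

local notation "εA" => Bialgebra.counitAlgHom k A
local notation "J" => RingHom.ker (Bialgebra.counitAlgHom k A)

omit [IsDomain A] in
theorem formallySmooth [_root_.IsReduced A] : Algebra.FormallySmooth k A := by
  let G : Over (Spec (CommRingCat.of k)) := (Spec (CommRingCat.of A)).asOver (Spec (CommRingCat.of k))
  haveI : LocallyOfFiniteType G.hom := by
    show LocallyOfFiniteType (Spec.map (CommRingCat.ofHom (algebraMap k A)))
    rw [HasRingHomProperty.Spec_iff (P := @LocallyOfFiniteType)]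
    exact RingHom.finiteType_algebraMap.mpr inferInstance
  haveI : AlgebraicGeometry.IsReduced G.left := by
    show AlgebraicGeometry.IsReduced (Spec (CommRingCat.of A))
    infer_instance
  have h := GrothLib.GrpSchField.smooth_of_perfectField_of_isReduced G
  have h2 : Smooth (Spec.map (CommRingCat.ofHom (algebraMap k A))) := h
  rw [HasRingHomProperty.Spec_iff (P := @Smooth)] at h2
  exact (RingHom.smooth_algebraMap.mp h2).formallySmooth

/-- A parameter at the origin with a dual point derivation. -/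
theorem exists_param (hdim : ringKrullDim A = 1) :
    ∃ (t : A) (δ : Module.Dual k A), GrothLib.AugId.IsPtDer δ ∧ δ t = 1 ∧ t ∈ J ∧ J ≤ Ideal.span {t} ⊔ J ^ 2 := by
  have h1 : Module.finrank k (J).Cotangent = 1 := by
    have h := ((GrothLib.AugId.ringKrullDim_le_and_iff (k := k) (A := A)).2.2 formallySmooth)
    rw [hdim] at h
    exact_mod_cast h.symm
  obtain ⟨c, hc0, hc⟩ := finrank_eq_one_iff'.1 h1
  obtain ⟨⟨t, ht⟩, rfl⟩ := (J).toCotangent_surjective c
  obtain ⟨f, hf⟩ : ∃ f : (J).Cotangent →ₗ[k] k, f ((J).toCotangent ⟨t, ht⟩) = 1 := by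
    obtain ⟨f, hf⟩ : ∃ f : Module.Dual k (J).Cotangent, f ((J).toCotangent ⟨t, ht⟩) ≠ 0 := by
      by_contra! hno
      exact hc0 ((Module.forall_dual_apply_eq_zero_iff k _).mp hno)
    exact ⟨(f ((J).toCotangent ⟨t, ht⟩))⁻¹ • f, by simp [hf]⟩
  refine ⟨t, _, GrothLib.AugId.isPtDer_tangentPt f, (GrothLib.AugId.snd_tangentPt f ⟨t, ht⟩).trans hf, ht,
    fun y hy => ?_⟩
  obtain ⟨r, hr⟩ := hc ((J).toCotangent ⟨y, hy⟩)
  refine Submodule.mem_sup.2 ⟨algebraMap k A r * t, Ideal.mul_mem_left _ _ (Ideal.mem_span_singleton_self t),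
    y - algebraMap k A r * t, ?_, by ring⟩
  rw [← GrothLib.AugId.toCotangent_smul, eq_comm, Ideal.toCotangent_eq] at hr
  simpa [Algebra.smul_def] using hr

omit [IsAlgClosed k] [Algebra.FiniteType k A] [IsDomain A] in
theorem invDer_primitive {δ : Module.Dual k A} (hδ : GrothLib.AugId.IsPtDer δ) {x : A}
    (hx : Coalgebra.comul (R := k) x = x ⊗ₜ[k] (1 : A) + (1 : A) ⊗ₜ[k] x) :
    GrothLib.AugId.invDer δ hδ x = algebraMap k A (δ x) := by
  show TensorProduct.rid k A (δ.lTensor A (Coalgebra.comul (R := k) x)) = _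
  rw [hx, map_add, map_add, LinearMap.lTensor_tmul, LinearMap.lTensor_tmul, TensorProduct.rid_tmul,
    TensorProduct.rid_tmul, GrothLib.AugId.ptDer_one' hδ, zero_smul, zero_add, Algebra.algebraMap_eq_smul_one]

/-- A primitive element killed by the tangent vector vanishes at the origin to every order below the
first power divisible by the characteristic. -/
theorem mem_pow_of_tangent_zero (hdim : ringKrullDim A = 1) {t : A} {δ : Module.Dual k A}
    (hδ : GrothLib.AugId.IsPtDer δ) (hδt : δ t = 1) (ht : t ∈ J) (hJ : J ≤ Ideal.span {t} ⊔ J ^ 2) {x : A}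
    (hx : Coalgebra.comul (R := k) x = x ⊗ₜ[k] (1 : A) + (1 : A) ⊗ₜ[k] x) (hδx : δ x = 0) :
    ∀ j : ℕ, (∀ i, 0 < i → i < j → (i : k) ≠ 0) → x ∈ (J) ^ j := by
  haveI : IsNoetherianRing A := Algebra.FiniteType.isNoetherianRing k A
  let D := GrothLib.AugId.invDer δ hδ
  have hDx : D x = 0 := by
    rw [show D = GrothLib.AugId.invDer δ hδ from rfl, invDer_primitive hδ hx, hδx, map_zero]
  have hDt : εA (D t) = 1 := (GrothLib.AugId.counit_op δ t).trans hδt
  have hxJ : x ∈ J := GrothLib.Unip.counit_of_primitive hx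
  have hne : J ≠ ⊥ := by
    intro h
    have hm : (J).IsMaximal := RingHom.ker_isMaximal_of_surjective _ fun r => ⟨algebraMap k A r, by simp⟩
    rw [h] at hm
    have hf := Ring.isField_iff_maximal_bot.mpr hm
    rw [ringKrullDim_eq_zero_of_isField hf] at hdim
    exact zero_ne_one hdim
  have hstab : ∀ i : ℕ, ¬ (J) ^ i ≤ (J) ^ (i + 1) := by
    intro i h
    have hall : ∀ m, (J) ^ i ≤ (J) ^ (i + m) := by
      intro m
      induction m with
      | zero => exact le_rfl
      | succ m ih =>
        refine ih.trans ?_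
        rw [pow_add, show i + (m + 1) = (i + 1) + m by omega, pow_add (J) (i + 1)]
        exact Ideal.mul_mono_left h
    have h2 : (J) ^ i ≤ ⊥ := by
      rw [← Ideal.iInf_pow_eq_bot_of_isDomain (J) (RingHom.ker_ne_top _)]
      exact le_iInf fun m => (hall m).trans (Ideal.pow_le_pow_right (by omega))
    exact pow_ne_zero i hne (le_bot_iff.1 h2)
  intro j
  induction j with
  | zero => intro _; rw [pow_zero, Ideal.one_eq_top]; trivial
  | succ j ih =>
    intro hj
    rcases Nat.eq_zero_or_pos j with rfl | hj0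
    · rwa [pow_one]
    have hjk : (j : k) ≠ 0 := hj j hj0 (by omega)
    have hxj := ih fun i h0 h1 => hj i h0 (by omega)
    -- `x = a tʲ` modulo the next power
    have hsub : ∀ m : ℕ, (J) ^ (m + 1) ≤ Ideal.span {t ^ (m + 1)} ⊔ (J) ^ (m + 2) := by
      intro m
      induction m with
      | zero => simpa using hJ
      | succ m ihm =>
        conv_lhs => rw [pow_succ]
        refine (Ideal.mul_mono ihm hJ).trans ?_
        rw [Ideal.mul_sup, Ideal.sup_mul, Ideal.sup_mul, Ideal.span_singleton_mul_span_singleton, ← pow_succ]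
        refine sup_le (sup_le le_sup_left ?_) (sup_le ?_ ?_) <;> refine le_trans ?_ le_sup_right
        · refine (Ideal.mul_mono_right (show Ideal.span {t} ≤ J from (Ideal.span_singleton_le_iff_mem _).2 ht)).trans ?_
          rw [← pow_succ]
        · refine (Ideal.mul_mono_left (show Ideal.span {t ^ (m + 1)} ≤ (J) ^ (m + 1) from
            (Ideal.span_singleton_le_iff_mem _).2 (Ideal.pow_mem_pow ht _))).trans ?_
          rw [← pow_add]
        · rw [← pow_add]
          exact Ideal.pow_le_pow_right (by omega)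
    obtain ⟨i, rfl⟩ : ∃ i, j = i + 1 := ⟨j - 1, by omega⟩
    obtain ⟨u, hu, r, hr, hsum⟩ := Submodule.mem_sup.1 (hsub i hxj)
    obtain ⟨a, rfl⟩ := Ideal.mem_span_singleton.1 hu
    by_cases ha : a ∈ J
    · rw [← hsum]
      refine add_mem ?_ hr
      rw [pow_succ]
      exact Ideal.mul_mem_mul (Ideal.pow_mem_pow ht _) ha
    exfalso
    -- differentiate
    have hDr : D r ∈ (J) ^ (i + 1) := GrothLib.AugId.derivation_mem_pow D _ _ r hr
    have hD : ((i + 1 : ℕ) : A) * t ^ i * D t * a ∈ (J) ^ (i + 1) := by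
      have h1 : D (t ^ (i + 1) * a + r) = 0 := by rw [hsum, hDx]
      rw [map_add, Derivation.leibniz, Derivation.leibniz_pow, add_tsub_cancel_right, smul_eq_mul, smul_eq_mul,
        smul_eq_mul, nsmul_eq_mul] at h1
      have e : ((i + 1 : ℕ) : A) * t ^ i * D t * a = -(D r) - t ^ (i + 1) * D a := by linear_combination h1
      rw [e]
      exact sub_mem (neg_mem hDr) (Ideal.mul_mem_right _ _ (Ideal.pow_mem_pow ht _))
    let w : A := ((i + 1 : ℕ) : A) * D t * a
    have hw : εA w ≠ 0 := by
      have ha' : εA a ≠ 0 := ha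
      simp only [w, map_mul, map_natCast, hDt, mul_one]
      exact mul_ne_zero hjk ha'
    have hti : t ^ i ∈ (J) ^ (i + 1) := by
      have h2 : t ^ i * (w - algebraMap k A (εA w)) ∈ (J) ^ (i + 1) := by
        rw [pow_succ]
        exact Ideal.mul_mem_mul (Ideal.pow_mem_pow ht i) (GrothLib.AugId.sub_counit_mem w)
      have h3 : t ^ i * w ∈ (J) ^ (i + 1) := by
        rw [show t ^ i * w = ((i + 1 : ℕ) : A) * t ^ i * D t * a by simp only [w]; ring]
        exact hD
      have h4 : algebraMap k A (εA w) * t ^ i ∈ (J) ^ (i + 1) := by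
        have := sub_mem h3 h2
        rwa [show t ^ i * w - t ^ i * (w - algebraMap k A (εA w)) = algebraMap k A (εA w) * t ^ i by ring] at this
      have h5 := Ideal.mul_mem_left _ (algebraMap k A (εA w)⁻¹) h4
      rwa [← mul_assoc, ← map_mul, inv_mul_cancel₀ hw, map_one, one_mul] at h5
    apply hstab i
    rcases i with _ | i
    · exact absurd ((pow_zero t) ▸ hti) (by rw [pow_one]; exact fun h => RingHom.ker_ne_top _ (Ideal.eq_top_of_isUnit_mem _ h isUnit_one))
    · exact (hsub i).trans (sup_le ((Ideal.span_singleton_le_iff_mem _).2 hti) le_rfl)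

/-- In characteristic zero a nonzero primitive element has nonzero differential. -/
theorem eq_zero_of_tangent_zero [CharZero k] (hdim : ringKrullDim A = 1) {t : A} {δ : Module.Dual k A}
    (hδ : GrothLib.AugId.IsPtDer δ) (hδt : δ t = 1) (ht : t ∈ J) (hJ : J ≤ Ideal.span {t} ⊔ J ^ 2) {x : A}
    (hx : Coalgebra.comul (R := k) x = x ⊗ₜ[k] (1 : A) + (1 : A) ⊗ₜ[k] x) (hδx : δ x = 0) : x = 0 := by
  haveI : IsNoetherianRing A := Algebra.FiniteType.isNoetherianRing k A
  rw [← Submodule.mem_bot A, ← Ideal.iInf_pow_eq_bot_of_isDomain (J) (RingHom.ker_ne_top _)]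
  simp only [Submodule.mem_iInf]
  exact fun j => mem_pow_of_tangent_zero hdim hδ hδt ht hJ hx hδx j fun i h _ => Nat.cast_ne_zero.2 h.ne'

/-- In characteristic `p` a primitive element with zero differential is a `p`-th power of a primitive one. -/
theorem exists_root_of_tangent_zero (p : ℕ) [Fact p.Prime] [CharP k p] (hdim : ringKrullDim A = 1) {t : A}
    {δ : Module.Dual k A} (hδ : GrothLib.AugId.IsPtDer δ) (hδt : δ t = 1) (ht : t ∈ J)
    (hJ : J ≤ Ideal.span {t} ⊔ J ^ 2) {x : A}
    (hx : Coalgebra.comul (R := k) x = x ⊗ₜ[k] (1 : A) + (1 : A) ⊗ₜ[k] x) (hδx : δ x = 0) :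
    ∃ z : A, z ^ p = x ∧ Coalgebra.comul (R := k) z = z ⊗ₜ[k] (1 : A) + (1 : A) ⊗ₜ[k] z := by
  haveI : IsNoetherianRing A := Algebra.FiniteType.isNoetherianRing k A
  have hp : p.Prime := Fact.out
  have hxp : x ∈ (J) ^ p := mem_pow_of_tangent_zero hdim hδ hδt ht hJ hx hδx p fun i h0 h1 => by
    rw [Ne, CharP.cast_eq_zero_iff k p]
    exact fun h => absurd (Nat.le_of_dvd h0 h) (by omega)
  haveI : PerfectField k := inferInstance
  obtain ⟨B, hB, hBH⟩ := (Groth.Agent.S8012.result k A p).1 1 one_pos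
  have hpow : ∀ b : A, b ^ p ∈ B := fun b => by
    rw [← SetLike.mem_coe, hB]; exact ⟨b, by simp⟩
  let I : Ideal A := augIdeal B
  have htp : ∀ b ∈ J, b ^ p ∈ I := fun b hb => Ideal.subset_span ⟨hpow b, by
    rw [map_pow, show εA b = 0 from hb, zero_pow hp.ne_zero]⟩
  have hrad : J ≤ I.radical := fun b hb => ⟨p, htp b hb⟩
  obtain ⟨M, hM⟩ := Ideal.exists_pow_le_of_le_radical_of_fg hrad (IsNoetherian.noetherian _)
  have hstep : ∀ m, p ≤ m → (J) ^ m ≤ I ⊔ (J) ^ (m + 1) := by
    intro m hm
    have h1 : (J) ^ m ≤ (Ideal.span {t} ⊔ (J) ^ 2) ^ m := Ideal.pow_right_mono hJ m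
    refine h1.trans ?_
    have h2 : ∀ m : ℕ, (Ideal.span {t} ⊔ (J) ^ 2) ^ m ≤ Ideal.span {t ^ m} ⊔ (J) ^ (m + 1) := by
      intro m
      induction m with
      | zero => rw [pow_zero, pow_zero, Ideal.span_singleton_one]; exact le_sup_left.trans' le_top
      | succ m ih =>
        rw [pow_succ]
        refine (Ideal.mul_mono_left ih).trans ?_
        rw [Ideal.sup_mul, Ideal.mul_sup, Ideal.span_singleton_mul_span_singleton, ← pow_succ]
        refine sup_le (sup_le le_sup_left (le_sup_right.trans' ?_)) (le_sup_right.trans' ?_)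
        · refine (Ideal.mul_mono_left (show Ideal.span {t ^ m} ≤ (J) ^ m from
            (Ideal.span_singleton_le_iff_mem _).2 (Ideal.pow_mem_pow ht _))).trans ?_
          rw [← pow_add]
        · refine (Ideal.mul_mono_right (show Ideal.span {t} ⊔ (J) ^ 2 ≤ J from
            sup_le ((Ideal.span_singleton_le_iff_mem _).2 ht) (Ideal.pow_le_self two_ne_zero))).trans ?_
          rw [← pow_succ]
    refine (h2 m).trans (sup_le_sup_right ((Ideal.span_singleton_le_iff_mem _).2 ?_) _)
    rw [show m = p + (m - p) by omega, pow_add]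
    exact Ideal.mul_mem_right _ _ (htp t ht)
  have hall : ∀ m, (J) ^ p ≤ I ⊔ (J) ^ (p + m) := by
    intro m
    induction m with
    | zero => exact le_sup_right
    | succ m ih => exact ih.trans (sup_le le_sup_left (hstep _ (by omega)))
  have hxI : x ∈ I := (sup_le le_rfl ((Ideal.pow_le_pow_right (Nat.le_add_left M p)).trans hM)) (hall M hxp)
  have hxB : x ∈ B := mem_of_invariant hBH x (by
    rw [hx, add_sub_cancel_left]
    exact ⟨(1 : A) ⊗ₜ[k] (⟨x, hxI⟩ : I.restrictScalars k), rfl⟩)
  rw [← SetLike.mem_coe, hB] at hxB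
  obtain ⟨z, hz⟩ := hxB
  have hz' : z ^ p = x := by simpa using hz
  refine ⟨z, hz', sub_eq_zero.1 ?_⟩
  haveI : CharP A p := charP_of_injective_algebraMap (algebraMap k A).injective p
  haveI : Nontrivial (A ⊗[k] A) :=
    ((εA).comp (Algebra.TensorProduct.lmul' k : A ⊗[k] A →ₐ[k] A)).toRingHom.domain_nontrivial
  haveI : CharP (A ⊗[k] A) p := charP_of_injective_algebraMap (algebraMap k (A ⊗[k] A)).injective p
  haveI : ExpChar (A ⊗[k] A) p := ExpChar.prime hp
  have h0 : (Coalgebra.comul (R := k) z - (z ⊗ₜ[k] (1 : A) + (1 : A) ⊗ₜ[k] z)) ^ p = 0 := by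
    rw [sub_pow_char, add_pow_char, Algebra.TensorProduct.tmul_pow, Algebra.TensorProduct.tmul_pow, one_pow,
      show Coalgebra.comul (R := k) z = Bialgebra.comulAlgHom k A z from rfl, ← map_pow, hz']
    exact sub_eq_zero.2 hx
  refine tensor_eq_zero _ fun g g' => ?_
  have := congrArg (Algebra.TensorProduct.lift g g' (fun _ _ => Commute.all _ _)) h0
  rw [map_pow, map_zero] at this
  exact eq_zero_of_pow_eq_zero this

end Groth.Agent.Lib.DimOne16
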