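import Groth.Agent.Lib.DimOne16.Unip
import Groth.Agent.Lib.DimOne16.Tangent

/-!
# The points killed by an additive character with nonzero differential
-/

universe u

set_option linter.all false

open TensorProduct WithConv Polynomial

noncomputable section

namespace Groth.Agent.Lib.DimOne16

variable {k : Type u} [Field k] {A : Type u} [CommRing A] [HopfAlgebra k A]

local notation "εA" => Bialgebra.counitAlgHom k A

/-- The points at which an additive character vanishes. -/
def kerPts {x : A} (hx : IsPrim k x) : Subgroup (WithConv (A →ₐ[k] k)) where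
  carrier := {g | g x = 0}
  one_mem' := by
    show (1 : WithConv (A →ₐ[k] k)) x = 0
    rw [AlgHom.convOne_apply]
    simpa using hx.counit
  mul_mem' {g h} hg hh := by
    show (g * h) x = 0
    rw [hx.mul_apply, show g x = 0 from hg, show h x = 0 from hh, add_zero]
  inv_mem' {g} hg := by
    show g⁻¹ x = 0
    have h := hx.mul_apply g g⁻¹
    rw [mul_inv_cancel, AlgHom.convOne_apply, show g x = 0 from hg, zero_add] at h
    rw [← h]
    simpa using hx.counit

variable [IsAlgClosed k] [Algebra.FiniteType k A]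

omit [IsAlgClosed k] in
theorem ker_point_isMaximal (h : A →ₐ[k] k) : (RingHom.ker h).IsMaximal :=
  RingHom.ker_isMaximal_of_surjective h fun r => ⟨algebraMap k A r, h.commutes r⟩

theorem exists_point (m : Ideal A) [m.IsMaximal] : ∃ h : A →ₐ[k] k, RingHom.ker h = m := by
  letI := Ideal.Quotient.field m
  haveI : Module.Finite k (A ⧸ m) := finite_of_finite_type_of_isJacobsonRing k _
  let i : k ≃ₐ[k] A ⧸ m :=
    AlgEquiv.ofBijective (Algebra.ofId k _) IsAlgClosed.algebraMap_bijective_of_isIntegral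
  refine ⟨i.symm.toAlgHom.comp (Ideal.Quotient.mkₐ k m), Ideal.ext fun a => ?_⟩
  show i.symm (Ideal.Quotient.mk m a) = 0 ↔ _
  rw [EmbeddingLike.map_eq_zero_iff, Ideal.Quotient.eq_zero_iff_mem]

omit [Algebra.FiniteType k A] [IsAlgClosed k] in
theorem point_ext {g h : A →ₐ[k] k} (e : RingHom.ker g = RingHom.ker h) : g = h := AlgHom.ext fun a => by
  have hm : a - algebraMap k A (g a) ∈ RingHom.ker g := by
    show g _ = 0
    rw [map_sub, g.commutes]
    exact sub_self _
  rw [e] at hm
  have h2 : h (a - algebraMap k A (g a)) = 0 := hm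
  rw [map_sub, h.commutes, sub_eq_zero] at h2
  exact h2.symm

omit [IsAlgClosed k] in
/-- A Noetherian ring all whose maximal ideals are idempotent has no nonzero element in all of them. -/
theorem eq_zero_of_idem {Q : Type*} [CommRing Q] [IsNoetherianRing Q]
    (hidem : ∀ m : Ideal Q, m.IsMaximal → IsIdempotentElem m) {a : Q} (ha : ∀ m : Ideal Q, m.IsMaximal → a ∈ m) :
    a = 0 := by
  by_contra ha0
  have hne : (Submodule.span Q {a}).annihilator ≠ ⊤ := fun h => ha0 (by
    have h1 := (Submodule.mem_annihilator_span_singleton a (1 : Q)).1 (h ▸ Submodule.mem_top)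
    simpa using h1)
  obtain ⟨m, hm, hle⟩ := Ideal.exists_le_maximal _ hne
  obtain ⟨e, he, hme⟩ := (Ideal.isIdempotentElem_iff_of_fg m (IsNoetherian.noetherian _)).1 (hidem m hm)
  have ham := ha m hm
  rw [hme] at ham
  obtain ⟨b, rfl⟩ := Ideal.mem_span_singleton'.1 ham
  have h1 : 1 - e ∈ m := hle ((Submodule.mem_annihilator_span_singleton _ _).2 (by
    rw [smul_eq_mul, show (1 - e) * (b * e) = b * (e - e * e) by ring, he.eq, sub_self, mul_zero]))
  have h2 : e ∈ m := hme ▸ Ideal.mem_span_singleton_self e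
  exact hm.ne_top ((Ideal.eq_top_iff_one m).2 (by simpa using add_mem h1 h2))

variable [IsDomain A]

/-- An additive character with nonzero differential is reduced: a function vanishing on its zeros is a
multiple of it. -/
theorem mem_span_of_vanish (hdim : ringKrullDim A = 1) {x : A} (hx : IsPrim k x) {t : A} {δ : Module.Dual k A}
    (hδ : GrothLib.AugId.IsPtDer δ) (hδt : δ t = 1) (ht : t ∈ RingHom.ker εA)
    (hJ : RingHom.ker εA ≤ Ideal.span {t} ⊔ RingHom.ker εA ^ 2) (hδx : δ x ≠ 0) {a : A}
    (ha : ∀ g : A →ₐ[k] k, g x = 0 → g a = 0) : a ∈ Ideal.span {x} := by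
  haveI : IsNoetherianRing A := Algebra.FiniteType.isNoetherianRing k A
  set J := RingHom.ker εA
  have hJx : J ≤ Ideal.span {x} ⊔ J ^ 2 := by
    refine hJ.trans (sup_le ((Ideal.span_singleton_le_iff_mem _).2 ?_) le_sup_right)
    have hδ2 : ∀ y ∈ J ^ 2, δ y = 0 := by
      intro y hy
      rw [pow_two] at hy
      refine Submodule.mul_induction_on hy (fun b hb c hc => ?_) fun b c hb hc => by rw [map_add, hb, hc, add_zero]
      rw [hδ b c, show εA b = 0 from hb, show εA c = 0 from hc]; simp
    obtain ⟨u, hu, r, hr, hsum⟩ := Submodule.mem_sup.1 (hJ (show x ∈ J from hx.counit))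
    obtain ⟨c, rfl⟩ := Ideal.mem_span_singleton.1 hu
    have hc : εA c = δ x := by
      rw [← hsum, map_add, hδ2 r hr, hδ t c, hδt, show εA t = 0 from ht]; simp
    have key : algebraMap k A (δ x) * t ∈ Ideal.span {x} ⊔ J ^ 2 := by
      refine Submodule.mem_sup.2 ⟨x, Ideal.mem_span_singleton_self x, -(t * (c - algebraMap k A (εA c))) - r,
        sub_mem (neg_mem ?_) hr, ?_⟩
      · rw [pow_two]
        exact Ideal.mul_mem_mul ht (GrothLib.AugId.sub_counit_mem c)
      · rw [hc, ← hsum]; ring
    have := Ideal.mul_mem_left _ (algebraMap k A (δ x)⁻¹) key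
    rwa [← mul_assoc, ← map_mul, inv_mul_cancel₀ hδx, map_one, one_mul] at this
  have hloc : ∀ g : A →ₐ[k] k, g x = 0 → RingHom.ker g ≤ Ideal.span {x} ⊔ RingHom.ker g ^ 2 := by
    intro g hg
    let e := GrothLib.AugId.trEquiv g
    have hker : ∀ b, e b ∈ J ↔ b ∈ RingHom.ker g := fun b => by
      show εA (GrothLib.AugId.tr g b) = 0 ↔ g b = 0
      rw [← AlgHom.comp_apply, GrothLib.AugId.counit_tr]
    have hex : e.symm x = x := by
      rw [AlgEquiv.symm_apply_eq, GrothLib.AugId.trEquiv_apply, hx.tr, hg, map_zero, zero_add]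
    intro b hb
    have hb' := hJx ((hker b).2 hb)
    obtain ⟨u, hu, r, hr, hsum⟩ := Submodule.mem_sup.1 hb'
    obtain ⟨c, rfl⟩ := Ideal.mem_span_singleton.1 hu
    have hb2 : b = e.symm (x * c) + e.symm r := by rw [← map_add, hsum, AlgEquiv.symm_apply_apply]
    rw [hb2]
    refine Submodule.add_mem_sup ?_ ?_
    · rw [map_mul, hex]; exact Ideal.mul_mem_right _ _ (Ideal.mem_span_singleton_self x)
    · have hle : J.map (e.symm : A →+* A) ≤ RingHom.ker g := Ideal.map_le_iff_le_comap.2 fun z hz =>
        (hker _).1 (by rw [show ((e.symm : A →+* A) z) = e.symm z from rfl, AlgEquiv.apply_symm_apply]; exact hz)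
      refine Ideal.pow_right_mono hle 2 ?_
      rw [← Ideal.map_pow]
      exact Ideal.mem_map_of_mem (e.symm : A →+* A) hr
  rw [← Ideal.Quotient.eq_zero_iff_mem]
  have hmax : ∀ m : Ideal (A ⧸ Ideal.span {x}), m.IsMaximal →
      ∃ g : A →ₐ[k] k, g x = 0 ∧ RingHom.ker g = m.comap (Ideal.Quotient.mk (Ideal.span {x})) := by
    intro m hm
    haveI := hm
    haveI : (m.comap (Ideal.Quotient.mk (Ideal.span {x}))).IsMaximal :=
      Ideal.comap_isMaximal_of_surjective _ Ideal.Quotient.mk_surjective
    obtain ⟨g, hg⟩ := exists_point (k := k) (m.comap (Ideal.Quotient.mk (Ideal.span {x})))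
    refine ⟨g, ?_, hg⟩
    show x ∈ RingHom.ker g
    rw [hg, Ideal.mem_comap, Ideal.Quotient.eq_zero_iff_mem.2 (Ideal.mem_span_singleton_self x)]
    exact zero_mem _
  refine eq_zero_of_idem (fun m hm => ?_) fun m hm => ?_
  · obtain ⟨g, hg, hgm⟩ := hmax m hm
    refine le_antisymm Ideal.mul_le_left ?_
    rw [← Ideal.map_comap_of_surjective _ Ideal.Quotient.mk_surjective m, ← hgm, ← Ideal.map_mul, ← pow_two]
    refine (Ideal.map_mono (hloc g hg)).trans ?_
    rw [Ideal.map_sup, Ideal.map_quotient_self, bot_sup_eq]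
  · obtain ⟨g, hg, hgm⟩ := hmax m hm
    rw [← Ideal.mem_comap, ← hgm]
    exact ha g hg

theorem finite_kerPts (hdim : ringKrullDim A = 1) {x : A} (hx : IsPrim k x) (hx0 : x ≠ 0) :
    Finite (kerPts hx) := by
  haveI : IsNoetherianRing A := Algebra.FiniteType.isNoetherianRing k A
  haveI : Ring.KrullDimLE 1 A := Ring.krullDimLE_iff.mpr hdim.le
  haveI := (Ideal.finite_minimalPrimes_of_isNoetherianRing A (Ideal.span {x})).to_subtype
  have hmem : ∀ g : kerPts hx, RingHom.ker g.1.ofConv ∈ (Ideal.span {x}).minimalPrimes := by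
    rintro ⟨g, hg⟩
    haveI := ker_point_isMaximal g.ofConv
    refine ⟨⟨Ideal.IsMaximal.isPrime inferInstance, (Ideal.span_singleton_le_iff_mem _).2 hg⟩, fun q hq hle => ?_⟩
    have hne : q ≠ ⊥ := fun h => hx0 (by
      have := hq.2 (Ideal.mem_span_singleton_self x)
      rw [h] at this
      exact this)
    have hqm : q.IsMaximal := Ring.krullDimLE_one_iff_of_noZeroDivisors.mp inferInstance _ hne hq.1
    exact (hqm.eq_of_le (Ideal.IsPrime.ne_top (ker_point_isMaximal g.ofConv).isPrime) hle).ge
  refine Finite.of_injective (fun g => (⟨_, hmem g⟩ : (Ideal.span {x}).minimalPrimes)) fun g h e => ?_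
  exact Subtype.ext (WithConv.ofConv_injective (point_ext (congrArg Subtype.val e)))

omit [IsAlgClosed k] [IsDomain A] in
/-- A function which is `1` at the origin and `0` at finitely many other points. -/
theorem exists_delta (S : Finset (A →ₐ[k] k)) (hS : εA ∉ S) :
    ∃ t : A, εA t = 1 ∧ ∀ g ∈ S, g t = 0 := by
  classical
  have hsep : ∀ g ∈ S, ∃ a : A, g a = 0 ∧ εA a = 1 := fun g hg => by
    by_contra hno
    push Not at hno
    suffices e : RingHom.ker g = RingHom.ker εA from hS (point_ext e ▸ hg)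
    refine (ker_point_isMaximal g).eq_of_le (RingHom.ker_ne_top (Bialgebra.counitAlgHom k A)) fun a ha => ?_
    by_contra h
    exact hno (algebraMap k A (εA a)⁻¹ * a) (by rw [map_mul, show g a = 0 from ha, mul_zero])
      (by rw [map_mul, AlgHom.commutes]; exact inv_mul_cancel₀ h)
  choose a ha ha1 using hsep
  refine ⟨∏ g ∈ S.attach, a g.1 g.2, by rw [map_prod]; exact Finset.prod_eq_one fun g _ => ha1 g.1 g.2, fun g hg => ?_⟩
  rw [map_prod]
  exact Finset.prod_eq_zero (Finset.mem_attach _ ⟨g, hg⟩) (ha g hg)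

variable {x : A} {hdim : ringKrullDim A = 1}

/-- An element fixed by the translations killing `x` is a polynomial in `x`. -/
theorem mem_adjoin_of_invariant (hdim : ringKrullDim A = 1) (hx : IsPrim k x)
    (hred : ∀ a : A, (∀ g : A →ₐ[k] k, g x = 0 → g a = 0) → a ∈ Ideal.span {x})
    {a : A} (ha : ∀ n ∈ kerPts hx, GrothLib.AugId.tr n.ofConv a = a) : a ∈ Algebra.adjoin k {x} := by
  classical
  refine mem_of_invariant (isHopfSubalgebra_adjoin hx) a ?_
  let b := Module.Free.chooseBasis k A
  obtain ⟨c, hc⟩ := TensorProduct.eq_repr_basis_left b (Coalgebra.comul (R := k) a - a ⊗ₜ[k] (1 : A))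
  have hcN : ∀ i, ∀ n : A →ₐ[k] k, n x = 0 → n (c i) = 0 := by
    intro i n hn
    let v : _ →₀ k := c.mapRange (fun a => n a) (map_zero n)
    have hv : Finsupp.linearCombination k b v = 0 := by
      refine GrothLib.Dense.eq_zero_of_forall_point (k := k) _ fun g => ?_
      have h0 : Algebra.TensorProduct.lift g n (fun _ _ => Commute.all _ _)
          (Coalgebra.comul (R := k) a - a ⊗ₜ[k] (1 : A)) = 0 := by
        rw [map_sub, Algebra.TensorProduct.lift_tmul, map_one, mul_one,
          ← AlgHom.convMul_apply (toConv g) (toConv n), points_comm hdim, sub_eq_zero]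
        have h := congrArg g (ha (toConv n) hn)
        rwa [← AlgHom.comp_apply, GrothLib.AugId.comp_tr] at h
      rw [← h0, ← hc, Finsupp.linearCombination_apply]
      simp only [v]
      rw [Finsupp.sum_mapRange_index (fun j => zero_smul k (b j)), Finsupp.sum, Finsupp.sum, map_sum, map_sum]
      refine Finset.sum_congr rfl fun j _ => ?_
      rw [Algebra.TensorProduct.lift_tmul, map_smul, smul_eq_mul, mul_comm]
    have : v = 0 := b.linearIndependent (by rw [hv, map_zero])
    simpa [v] using DFunLike.congr_fun this i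
  rw [← hc]
  refine sum_mem fun i _ => ?_
  have hle : Ideal.span {x} ≤ augIdeal (Algebra.adjoin k {x}) :=
    Ideal.span_mono (Set.singleton_subset_iff.2 ⟨Algebra.subset_adjoin rfl, hx.counit⟩)
  exact ⟨b i ⊗ₜ[k] (⟨c i, hle (hred _ (hcN i))⟩ : (augIdeal (Algebra.adjoin k {x})).restrictScalars k), rfl⟩

end Groth.Agent.Lib.DimOne16
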