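import Groth.Agent.Lib.DimOne16.Basic
import Groth.Agent.Lib.AugId.Translate
import Groth.Agent.Lib.HopfAG.UnipPrim
import Groth.Agent.Lib.CharFG28.GroupLike
import Groth.Agent.Lib.Dim.Ring
import Groth.Agent.S7967
import Groth.Agent.S3308
import Groth.Agent.S7957

/-!
# A one-dimensional group with a primitive element is unipotent
-/

universe u

set_option linter.all false

open TensorProduct WithConv Polynomial

noncomputable section

namespace Groth.Agent.Lib.DimOne16

variable {k : Type u} [Field k] {A : Type u} [CommRing A] [HopfAlgebra k A]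

local notation "εA" => Bialgebra.counitAlgHom k A

/-- Primitive elements. -/
def IsPrim (k : Type u) [CommRing k] {A : Type u} [CommRing A] [Bialgebra k A] (x : A) : Prop :=
  Coalgebra.comul (R := k) x = x ⊗ₜ[k] (1 : A) + (1 : A) ⊗ₜ[k] x

theorem IsPrim.counit {x : A} (hx : IsPrim k x) : εA x = 0 := GrothLib.Unip.counit_of_primitive hx

theorem tr_eq (h : A →ₐ[k] k) (a : A) : GrothLib.AugId.tr h a =
    Algebra.TensorProduct.lift ((Algebra.ofId k A).comp h) (AlgHom.id k A) (fun _ _ => Commute.all _ _)
      (Coalgebra.comul (R := k) a) :=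
  AlgHom.convMul_apply (toConv ((Algebra.ofId k A).comp h)) (toConv (AlgHom.id k A)) a

theorem IsPrim.tr {x : A} (hx : IsPrim k x) (h : A →ₐ[k] k) :
    GrothLib.AugId.tr h x = algebraMap k A (h x) + x := by
  rw [tr_eq, hx, map_add, Algebra.TensorProduct.lift_tmul, Algebra.TensorProduct.lift_tmul]
  simp [Algebra.ofId_apply]

theorem IsPrim.mul_apply {x : A} (hx : IsPrim k x) (g h : WithConv (A →ₐ[k] k)) :
    (g * h) x = g x + h x := by
  rw [AlgHom.convMul_apply, show Coalgebra.comul (R := k) x = _ from hx, map_add, Algebra.TensorProduct.lift_tmul,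
    Algebra.TensorProduct.lift_tmul]
  simp

variable [IsAlgClosed k] [Algebra.FiniteType k A] [IsDomain A]

omit [Algebra.FiniteType k A] in
theorem IsPrim.aeval_injective {x : A} (hx : IsPrim k x) (hx0 : x ≠ 0) :
    Function.Injective (Polynomial.aeval (R := k) x) := by
  refine (injective_iff_map_eq_zero _).2 fun P hP => ?_
  by_contra hP0
  have hmonic : IsIntegral k x := isAlgebraic_iff_isIntegral.1 ⟨P, hP0, hP⟩
  obtain ⟨c, hc⟩ : ∃ c : k, algebraMap k A c = x := by
    haveI : Algebra.IsIntegral k (Algebra.adjoin k {x}) :=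
      Algebra.IsIntegral.adjoin (by rintro y rfl; exact hmonic)
    obtain ⟨c, hc⟩ := (IsAlgClosed.algebraMap_bijective_of_isIntegral (k := k) (K := Algebra.adjoin k {x})).2
      ⟨x, Algebra.subset_adjoin rfl⟩
    exact ⟨c, congrArg Subtype.val hc⟩
  have := hx.counit
  rw [← hc, AlgHom.commutes] at this
  exact hx0 (by rw [← hc, show c = 0 from this, map_zero])

/-- A group-like element and an additive character are algebraically independent. -/
theorem indep_groupLike_prim {g x : A} (hg : IsGroupLikeElem k g) (hg1 : g ≠ 1) (hx : IsPrim k x) (hx0 : x ≠ 0) :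
    ∀ (s : Finset ℕ) (P : ℕ → k[X]), ∑ i ∈ s, g ^ i * aeval x (P i) = 0 → ∀ i ∈ s, P i = 0 := by
  classical
  have hgu : IsUnit g := hg.isUnit
  have hpow : ∀ i j : ℕ, g ^ i = g ^ j → i = j := by
    have key : ∀ i j : ℕ, i ≤ j → g ^ i = g ^ j → i = j := fun i j hij h => by
      obtain ⟨d, rfl⟩ := Nat.exists_eq_add_of_le hij
      by_contra hd
      have hd0 : 0 < d := by omega
      rw [pow_add] at h
      have h1 : g ^ d = 1 := mul_eq_left₀ (hgu.pow i).ne_zero |>.1 h.symm
      have hint : IsIntegral k g := IsIntegral.of_pow hd0 (by rw [h1]; exact isIntegral_one)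
      haveI : Algebra.IsIntegral k (Algebra.adjoin k {g}) :=
        Algebra.IsIntegral.adjoin (by rintro y rfl; exact hint)
      obtain ⟨c, hc⟩ := (IsAlgClosed.algebraMap_bijective_of_isIntegral (k := k) (K := Algebra.adjoin k {g})).2
        ⟨g, Algebra.subset_adjoin rfl⟩
      have hc' : algebraMap k A c = g := congrArg Subtype.val hc
      have := hg.1
      rw [← hc', Bialgebra.counit_algebraMap] at this
      exact hg1 (by rw [← hc', show c = 1 from this, map_one])
    intro i j h
    rcases le_total i j with hij | hij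
    · exact key i j hij h
    · exact (key j i hij h.symm).symm
  have htr : ∀ h : A →ₐ[k] k, GrothLib.AugId.tr h g = algebraMap k A (h g) * g := fun h => by
    rw [tr_eq, hg.2, Algebra.TensorProduct.lift_tmul]; rfl
  suffices H : ∀ (N : ℕ) (s : Finset ℕ) (P : ℕ → k[X]), (∑ i ∈ s, ((P i).natDegree + 1)) ≤ N →
      ∑ i ∈ s, g ^ i * aeval x (P i) = 0 → ∀ i ∈ s, P i = 0 from fun s P => H _ s P le_rfl
  intro N
  induction N using Nat.strong_induction_on with
  | _ N ih =>
  intro s P hN hsum i₀ hi₀
  by_contra hP0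
  -- translate and subtract
  have hsame : ∀ (h : A →ₐ[k] k), ∀ i ∈ s, P i ≠ 0 → (h g) ^ i = (h g) ^ i₀ := by
    intro h
    let Q : ℕ → k[X] := fun i => C ((h g) ^ i) * taylor (h x) (P i) - C ((h g) ^ i₀) * P i
    have hQ : ∑ i ∈ s, g ^ i * aeval x (Q i) = 0 := by
      have h1 : ∑ i ∈ s, g ^ i * aeval x (C ((h g) ^ i) * taylor (h x) (P i)) = 0 := by
        have h2 := congrArg (GrothLib.AugId.tr h) hsum
        rw [map_zero, map_sum] at h2
        refine Eq.trans (Finset.sum_congr rfl fun i _ => ?_) h2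
        rw [map_mul (GrothLib.AugId.tr h), map_pow (GrothLib.AugId.tr h), htr,
          ← Polynomial.aeval_algHom_apply (GrothLib.AugId.tr h) x, hx.tr h, taylor_apply, map_mul, aeval_C, aeval_comp,
          mul_pow]
        simp only [map_add, aeval_X, aeval_C, map_pow]
        rw [add_comm x]
        ring
      simp only [Q, map_sub, mul_sub, Finset.sum_sub_distrib, h1, zero_sub, neg_eq_zero]
      simp only [map_mul, aeval_C]
      rw [Finset.sum_congr rfl fun i _ => mul_left_comm (g ^ i) _ _, ← Finset.mul_sum, hsum, mul_zero]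
    have hdeg : ∀ i, (Q i).natDegree ≤ (P i).natDegree := fun i => by
      refine (natDegree_sub_le _ _).trans (max_le ?_ (natDegree_C_mul_le _ _))
      exact (natDegree_C_mul_le _ _).trans (natDegree_taylor _ _).le
    have hcoeff : ∀ i, (Q i).coeff (P i).natDegree = ((h g) ^ i - (h g) ^ i₀) * (P i).leadingCoeff := fun i => by
      simp only [Q, coeff_sub, coeff_C_mul, coeff_taylor_natDegree, sub_mul]
      rfl
    have hQ0 : (Q i₀).coeff (P i₀).natDegree = 0 := by rw [hcoeff, sub_self, zero_mul]
    have hall : ∀ i ∈ s, Q i = 0 := by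
      by_cases hd : Q i₀ = 0
      · have hsum' : ∑ i ∈ s.erase i₀, g ^ i * aeval x (Q i) = 0 := by
          rw [← Finset.add_sum_erase _ _ hi₀, hd, map_zero, mul_zero, zero_add] at hQ
          exact hQ
        have hlt : ∑ i ∈ s.erase i₀, ((Q i).natDegree + 1) < N := by
          refine lt_of_lt_of_le ?_ hN
          rw [← Finset.add_sum_erase _ _ hi₀]
          have := Finset.sum_le_sum (s := s.erase i₀) fun i _ => Nat.add_le_add_right (hdeg i) 1
          omega
        intro i hi
        rcases eq_or_ne i i₀ with rfl | hne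
        · exact hd
        · exact ih _ hlt _ Q le_rfl hsum' i (Finset.mem_erase.2 ⟨hne, hi⟩)
      · have hlt : ∑ i ∈ s, ((Q i).natDegree + 1) < N := by
          refine lt_of_lt_of_le (Finset.sum_lt_sum (fun i _ => Nat.add_le_add_right (hdeg i) 1)
            ⟨i₀, hi₀, Nat.add_lt_add_right ((hdeg i₀).lt_of_ne fun he => ?_) 1⟩) hN
          rw [← he] at hQ0
          exact hd (leadingCoeff_eq_zero.1 hQ0)
        exact ih _ hlt s Q le_rfl hQ
    intro i hi hPi
    have := hcoeff i
    rw [hall i hi, coeff_zero, eq_comm, mul_eq_zero, sub_eq_zero] at this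
    exact this.resolve_right (leadingCoeff_ne_zero.2 hPi)
  have hone : ∀ i ∈ s, P i ≠ 0 → i = i₀ := fun i hi hPi => hpow i i₀ (sub_eq_zero.1
    (GrothLib.Dense.eq_zero_of_forall_point (k := k) _ fun h => by
      rw [map_sub, map_pow, map_pow, hsame h i hi hPi, sub_self]))
  rw [Finset.sum_eq_single_of_mem i₀ hi₀ fun i hi hne => by
    rw [show P i = 0 from by_contra fun h => hne (hone i hi h), map_zero, mul_zero]] at hsum
  exact hP0 (hx.aeval_injective hx0 (by
    rw [map_zero]; exact (hgu.pow i₀).mul_right_eq_zero.1 hsum))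

/-- Two algebraically independent elements contradict dimension one. -/
theorem not_algebraicIndependent (hdim : ringKrullDim A = 1) (v : Fin 2 → A) : ¬ AlgebraicIndependent k v := by
  intro hv
  obtain ⟨n, hn, hn'⟩ := GrothLib.Dim.exists_nat_trdeg_eq_and_ringKrullDim_eq k A
  rw [hdim] at hn'
  have h1 : n = 1 := by exact_mod_cast hn'.symm
  have h2 := hv.lift_cardinalMk_le_trdeg
  rw [hn, h1] at h2
  simp at h2

theorem groupLike_eq_one (hdim : ringKrullDim A = 1) {x : A} (hx : IsPrim k x) (hx0 : x ≠ 0) {g : A}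
    (hg : IsGroupLikeElem k g) : g = 1 := by
  classical
  by_contra hg1
  refine not_algebraicIndependent (k := k) hdim ![g, x] ((injective_iff_map_eq_zero _).2 fun F hF => ?_)
  let P : ℕ → k[X] := fun i => ∑ d ∈ F.support.filter (fun d => d 0 = i), monomial (d 1) (F.coeff d)
  have hsum : ∑ i ∈ F.support.image (fun d => d 0), g ^ i * aeval x (P i) = 0 := by
    have e := congrArg (MvPolynomial.aeval (R := k) ![g, x]) F.as_sum
    rw [map_sum, hF, ← Finset.sum_fiberwise_of_maps_to (g := fun d : Fin 2 →₀ ℕ => d 0)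
      (t := F.support.image fun d => d 0) (fun d hd => Finset.mem_image_of_mem _ hd)] at e
    refine Eq.trans ?_ e.symm
    refine Finset.sum_congr rfl fun i _ => ?_
    simp only [P]
    rw [map_sum, Finset.mul_sum]
    refine Finset.sum_congr rfl fun d hd => ?_
    rw [MvPolynomial.aeval_monomial, Finsupp.prod_fintype _ _ (fun _ => pow_zero _), Fin.prod_univ_two,
      Polynomial.aeval_monomial, (Finset.mem_filter.1 hd).2]
    simp only [Matrix.cons_val_zero, Matrix.cons_val_one]
    ring
  by_contra hF0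
  obtain ⟨d, hd⟩ := MvPolynomial.support_nonempty.2 hF0
  have h := congrArg (fun p => Polynomial.coeff p (d 1))
    (indep_groupLike_prim hg hg1 hx hx0 _ P hsum (d 0) (Finset.mem_image_of_mem _ hd))
  simp only [P, finsetSum_coeff, coeff_zero, Polynomial.coeff_monomial] at h
  have hdm : d ∈ F.support.filter (fun e => e 0 = d 0) := Finset.mem_filter.2 ⟨hd, rfl⟩
  rw [Finset.sum_eq_single_of_mem d hdm fun e he hne => ?_, if_pos rfl] at h
  · exact MvPolynomial.mem_support_iff.1 hd h
  · rw [if_neg]
    intro h1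
    exact hne (Finsupp.ext (Fin.forall_fin_two.2 ⟨(Finset.mem_filter.1 he).2, h1⟩))

theorem isUnipotent_of_prim (hdim : ringKrullDim A = 1) {x : A} (hx : IsPrim k x) (hx0 : x ≠ 0) :
    HopfRep.IsUnipotent k A := by
  haveI := isCocomm (k := k) (A := A) hdim
  obtain ⟨B, _, _, ψ, J, hJH, hinj, hB, hJ, hU⟩ := (Groth.Agent.S7967.result k A).1 (Groth.Agent.S3308.result k A)
  have hone : ∀ b : B, IsGroupLikeElem k b → b = 1 := fun b hb => hinj (by
    rw [groupLike_eq_one hdim hx hx0 (hb.map ψ), map_one])
  have hker : RingHom.ker (Bialgebra.counitAlgHom k B) = ⊥ := by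
    refine eq_bot_iff.2 fun b hb => ?_
    have hmem : b ∈ Submodule.span k ({1} : Set B) := by
      refine Submodule.span_mono (fun c hc => ?_) (show b ∈ Submodule.span k {c : B | IsGroupLikeElem k c} by
        rw [hB]; trivial)
      exact hone c hc
    obtain ⟨c, rfl⟩ := Submodule.mem_span_singleton.1 hmem
    have hc : Bialgebra.counitAlgHom k B (c • 1) = 0 := hb
    rw [map_smul, map_one, smul_eq_mul, mul_one] at hc
    rw [hc, zero_smul]
    exact zero_mem _
  rw [hker, Ideal.map_bot] at hJ
  subst hJ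
  let q : A ⧸ (⊥ : Ideal A) →ₐ[k] A := Ideal.Quotient.liftₐ ⊥ (AlgHom.id k A) fun a ha => ha
  let φ : A ⧸ (⊥ : Ideal A) →ₐc[k] A := BialgHom.ofAlgHom q
    (Ideal.Quotient.algHom_ext k (AlgHom.ext fun a => rfl))
    (Ideal.Quotient.algHom_ext k (AlgHom.ext fun a => by
      change Algebra.TensorProduct.map q q (Algebra.TensorProduct.map (Ideal.Quotient.mkₐ k ⊥)
        (Ideal.Quotient.mkₐ k ⊥) (Coalgebra.comul (R := k) a)) = Coalgebra.comul (R := k) a
      generalize Coalgebra.comul (R := k) a = z
      induction z using TensorProduct.induction_on with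
      | zero => simp
      | tmul a b => rfl
      | add a b ha hb => simp only [map_add, ha, hb]))
  exact GrothLib.Unip.isUnipotent_of_surjective' φ (fun a => ⟨Ideal.Quotient.mk ⊥ a, rfl⟩) hU

/-- Points of finite order have order a power of the characteristic exponent. -/
theorem eq_one_of_pow (hdim : ringKrullDim A = 1) {x : A} (hx : IsPrim k x) (hx0 : x ≠ 0)
    {g : WithConv (A →ₐ[k] k)} {m : ℕ} (hm : ¬ ringChar k ∣ m) (hg : g ^ m = 1) : g = 1 :=
  (Groth.Agent.S7957.result k A (isUnipotent_of_prim hdim hx hx0) m hm).1 (by simpa using hg)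

end Groth.Agent.Lib.DimOne16
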